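import Cfsg.Agent.Lib.Golay.M11Cent
import Cfsg.Agent.Lib.Steiner.Unique12
import Mathlib.GroupTheory.Perm.Sign

/-!
# The Steiner system preserved by a sharply four-transitive group on eleven points
-/

set_option autoImplicit false
set_option linter.unusedSectionVars false

namespace Cfsg.Agent.Lib.Points11

open Cfsg Cfsg.Agent.Lib

variable {G X : Type*} [Group G] [Fintype G] [MulAction G X] [Fintype X] [DecidableEq X]

/-- `e` is the third fixed point of the involution exchanging `a`, `b` and fixing `c`, `d`. -/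
def Block (G : Type*) {X : Type*} [Group G] [MulAction G X] (v : Fin 5 → X) : Prop :=
  Function.Injective v ∧
    ∃ g : G, g • v 0 = v 1 ∧ g • v 1 = v 0 ∧ g • v 2 = v 2 ∧ g • v 3 = v 3 ∧ g • v 4 = v 4

/-- An embedding from four distinct points. -/
def quad (a b c d : X) (h : Function.Injective ![a, b, c, d]) : Fin 4 ↪ X := ⟨![a, b, c, d], h⟩

theorem eq_of_four (h : JordanSharp.Sharp G X 4) {a b c d : X}
    (hd : Function.Injective ![a, b, c, d]) {g g' : G} (ha : g • a = g' • a) (hb : g • b = g' • b)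
    (hc : g • c = g' • c) (he : g • d = g' • d) : g = g' := by
  refine h.unique (quad a b c d hd) fun i => ?_
  fin_cases i <;> assumption

/-- The involution exchanging two points and fixing two further points. -/
theorem exists_trans (h : JordanSharp.Sharp G X 4) (hX : Fintype.card X = 11) {a b c d : X}
    (hd : Function.Injective ![a, b, c, d]) :
    ∃ g : G, ∃ e : X, orderOf g = 2 ∧ g • a = b ∧ g • b = a ∧ g • c = c ∧ g • d = d ∧
      g • e = e ∧ Function.Injective ![a, b, c, d, e] ∧
      ∀ p : X, g • p = p → p = c ∨ p = d ∨ p = e := by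
  have hne : a ≠ b ∧ a ≠ c ∧ a ≠ d ∧ b ≠ c ∧ b ≠ d ∧ c ≠ d :=
    ⟨fun e => absurd (@hd 0 1 e) (by decide), fun e => absurd (@hd 0 2 e) (by decide),
      fun e => absurd (@hd 0 3 e) (by decide), fun e => absurd (@hd 1 2 e) (by decide),
      fun e => absurd (@hd 1 3 e) (by decide), fun e => absurd (@hd 2 3 e) (by decide)⟩
  obtain ⟨hab, hac, had, hbc, hbd, hcd⟩ := hne
  have hd' : Function.Injective ![b, a, c, d] := by
    intro i j hij
    fin_cases i <;> fin_cases j <;> simp_all
  obtain ⟨g, hg⟩ := h.exists_map (quad a b c d hd) (quad b a c d hd')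
  have ga : g • a = b := hg 0
  have gb : g • b = a := hg 1
  have gc : g • c = c := hg 2
  have gd : g • d = d := hg 3
  have hg2 : orderOf g = 2 := by
    refine orderOf_eq_prime ?_ fun e => ?_
    · refine eq_of_four h hd ?_ ?_ ?_ ?_ <;> simp [pow_two, mul_smul, ga, gb, gc, gd]
    · rw [e, one_smul] at ga; exact hab ga
  have h3 := Golay.inv_fix_three h hX hg2
  have hsub : ({c, d} : Finset X) ⊆ JordanSharp.fixF g := by
    intro p hp
    rcases Finset.mem_insert.1 hp with rfl | hp'
    · simp [JordanSharp.fixF, gc]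
    · rw [Finset.mem_singleton.1 hp']; simp [JordanSharp.fixF, gd]
  obtain ⟨e, he, he'⟩ := Finset.exists_mem_notMem_of_card_lt_card
    (show ({c, d} : Finset X).card < (JordanSharp.fixF (X := X) g).card by
      rw [h3, Finset.card_pair hcd]; norm_num)
  simp only [Finset.mem_insert, Finset.mem_singleton, not_or] at he'
  have ge : g • e = e := (Finset.mem_filter.1 he).2
  have hea : e ≠ a := fun e' => hab (by rw [e'] at ge; exact ge.symm.trans ga)
  have heb : e ≠ b := fun e' => hab (by rw [e'] at ge; exact gb.symm.trans ge)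
  refine ⟨g, e, hg2, ga, gb, gc, gd, ge, ?_, fun p hp => ?_⟩
  · intro i j hij
    fin_cases i <;> fin_cases j <;> simp_all
  · have e3 : ({c, d, e} : Finset X) = JordanSharp.fixF g := by
      refine Finset.eq_of_subset_of_card_le (fun q hq => ?_) ?_
      · simp only [Finset.mem_insert, Finset.mem_singleton] at hq
        rcases hq with rfl | rfl | rfl <;> simp [JordanSharp.fixF, gc, gd, ge]
      · rw [h3, Finset.card_eq_three.2 ⟨c, d, e, hcd, Ne.symm he'.1, Ne.symm he'.2, rfl⟩]
    have := e3.ge (Finset.mem_filter.2 ⟨Finset.mem_univ p, hp⟩)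
    simpa using this

theorem inj_sub {v : Fin 5 → X} (hv : Function.Injective v) (i j k l : Fin 5)
    (hijkl : Function.Injective ![i, j, k, l]) : Function.Injective ![v i, v j, v k, v l] := by
  have : ![v i, v j, v k, v l] = v ∘ ![i, j, k, l] := by funext m; fin_cases m <;> rfl
  rw [this]; exact hv.comp hijkl

theorem Block.inj4 {v : Fin 5 → X} (hv : Block G v) :
    Function.Injective ![v 0, v 1, v 2, v 3] := inj_sub hv.1 0 1 2 3 (by decide)

theorem Block.last_unique (h : JordanSharp.Sharp G X 4) (hX : Fintype.card X = 11) {v w : Fin 5 → X}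
    (hv : Block G v) (hw : Block G w) (h0 : w 0 = v 0) (h1 : w 1 = v 1) (h2 : w 2 = v 2)
    (h3 : w 3 = v 3) : w 4 = v 4 := by
  obtain ⟨g, e, -, ga, gb, gc, gd, -, -, hfix⟩ := exists_trans h hX hv.inj4
  have key : ∀ u : Fin 5 → X, Block G u → u 0 = v 0 → u 1 = v 1 → u 2 = v 2 → u 3 = v 3 → u 4 = e := by
    intro u hu e0 e1 e2 e3
    obtain ⟨hinj, g', a1, a2, a3, a4, a5⟩ := hu
    rw [e0, e1] at a1 a2
    rw [e2] at a3
    rw [e3] at a4
    have heq : g' = g :=
      eq_of_four h hv.inj4 (a1.trans ga.symm) (a2.trans gb.symm) (a3.trans gc.symm) (a4.trans gd.symm)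
    rcases hfix (u 4) (heq ▸ a5) with e' | e' | e'
    · exact absurd (hinj (e'.trans e2.symm)) (by decide)
    · exact absurd (hinj (e'.trans e3.symm)) (by decide)
    · exact e'
  rw [key w hw h0 h1 h2 h3, key v hv rfl rfl rfl rfl]

theorem Block.exists_last (h : JordanSharp.Sharp G X 4) (hX : Fintype.card X = 11) {a b c d : X}
    (hd : Function.Injective ![a, b, c, d]) : ∃ e, Block G ![a, b, c, d, e] := by
  obtain ⟨g, e, -, ga, gb, gc, gd, ge, hinj, -⟩ := exists_trans h hX hd
  exact ⟨e, hinj, g, ga, gb, gc, gd, ge⟩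

/-- The pair exchanged and the pair fixed may change places. -/
theorem Block.pairs (h : JordanSharp.Sharp G X 4) (hX : Fintype.card X = 11) {a b c d e : X}
    (hv : Block G ![a, b, c, d, e]) : Block G ![c, d, a, b, e] := by
  obtain ⟨hinj, g, ga, gb, gc, gd, ge⟩ := hv
  simp only [Matrix.cons_val] at ga gb gc gd ge
  have hd' : Function.Injective ![c, d, a, b] := inj_sub hinj 2 3 0 1 (by decide)
  obtain ⟨g', e', -, gc', gd', ga', gb', ge', hinj', hfix'⟩ := exists_trans h hX hd'
  -- `g` commutes with `g'`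
  have hcomm : ∀ p : X, g' • p = p → g' • (g • p) = g • p := by
    have e1 : g' * g = g * g' := by
      refine eq_of_four h hd' ?_ ?_ ?_ ?_ <;> simp [mul_smul, ga, gb, gc, gd, gc', gd', ga', gb']
    intro p hp
    rw [← mul_smul, e1, mul_smul, hp]
  have hge : g • e' = e' := by
    rcases hfix' _ (hcomm e' ge') with e1 | e1 | e1
    · have h2 : e' = b := MulAction.injective g (e1.trans gb.symm)
      exact absurd (@hinj' 3 4 (by simp [h2])) (by decide)
    · have h2 : e' = a := MulAction.injective g (e1.trans ga.symm)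
      exact absurd (@hinj' 2 4 (by simp [h2])) (by decide)
    · exact e1
  -- hence the two third points agree
  have hv' : Block G ![a, b, c, d, e'] := by
    refine ⟨?_, g, ga, gb, gc, gd, hge⟩
    have : ![a, b, c, d, e'] = ![c, d, a, b, e'] ∘ ![2, 3, 0, 1, 4] := by
      funext m; fin_cases m <;> rfl
    rw [this]
    exact hinj'.comp (by decide)
  have he : e' = e := Block.last_unique h hX ⟨hinj, g, ga, gb, gc, gd, ge⟩ hv' rfl rfl rfl rfl
  rw [← he]
  exact ⟨hinj', g', gc', gd', ga', gb', ge'⟩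

theorem five_eta (v : Fin 5 → X) : ![v 0, v 1, v 2, v 3, v 4] = v := by
  funext i; fin_cases i <;> rfl

theorem Block.swap01 {v : Fin 5 → X} (hv : Block G v) : Block G (v ∘ Equiv.swap 0 1) := by
  obtain ⟨hinj, g, h0, h1, h2, h3, h4⟩ := hv
  exact ⟨hinj.comp (Equiv.injective _), g, h1, h0, h2, h3, h4⟩

theorem Block.swap23 {v : Fin 5 → X} (hv : Block G v) : Block G (v ∘ Equiv.swap 2 3) := by
  obtain ⟨hinj, g, h0, h1, h2, h3, h4⟩ := hv
  exact ⟨hinj.comp (Equiv.injective _), g, h0, h1, h3, h2, h4⟩

theorem Block.swap34 {v : Fin 5 → X} (hv : Block G v) : Block G (v ∘ Equiv.swap 3 4) := by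
  obtain ⟨hinj, g, h0, h1, h2, h3, h4⟩ := hv
  exact ⟨hinj.comp (Equiv.injective _), g, h0, h1, h2, h4, h3⟩

theorem Block.swap12 (h : JordanSharp.Sharp G X 4) (hX : Fintype.card X = 11) {v : Fin 5 → X}
    (hv : Block G v) : Block G (v ∘ Equiv.swap 1 2) := by
  have hinj := hv.1
  have hne : ∀ i j : Fin 5, i ≠ j → v i ≠ v j := fun i j hij he => hij (hinj he)
  obtain ⟨a, b, c, d, ea, eb, ec, ed⟩ : ∃ a b c d : X, v 0 = a ∧ v 1 = b ∧ v 2 = c ∧ v 3 = d :=
    ⟨_, _, _, _, rfl, rfl, rfl, rfl⟩
  have h2d : Function.Injective ![a, c, b, d] := by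
    subst ea eb ec ed
    exact inj_sub hinj 0 2 1 3 (by decide)
  have h3d : Function.Injective ![a, d, b, c] := by
    subst ea eb ec ed
    exact inj_sub hinj 0 3 1 2 (by decide)
  obtain ⟨e2, hB2⟩ := Block.exists_last h hX h2d
  obtain ⟨e3, hB3⟩ := Block.exists_last h hX h3d
  set e1 := v 4 with he1
  have hB1 : Block G ![a, b, c, d, e1] := by
    subst ea eb ec ed; rwa [he1, five_eta]
  suffices h12 : e1 = e2 by
    convert hB2 using 1
    funext i
    fin_cases i <;> simp [Equiv.swap_apply_def, ea, eb, ec, ed, ← h12, he1]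
  -- conjugation by the involution exchanging `a` and `b` interchanges the other two points
  obtain ⟨i1, g, ga, gb, gc, gd, ge⟩ := hB1
  simp only [Matrix.cons_val] at ga gb gc gd ge
  have hconj : ∀ {p q r s x : X}, Block G ![p, q, r, s, x] → ∀ k : G,
      Block G ![k • p, k • q, k • r, k • s, k • x] := by
    intro p q r s x hb k
    obtain ⟨hi, m, m0, m1, m2, m3, m4⟩ := hb
    simp only [Matrix.cons_val] at m0 m1 m2 m3 m4
    refine ⟨?_, k * m * k⁻¹, ?_, ?_, ?_, ?_, ?_⟩
    · have : ![k • p, k • q, k • r, k • s, k • x] = (k • ·) ∘ ![p, q, r, s, x] := by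
        funext i; fin_cases i <;> rfl
      rw [this]; exact (MulAction.injective k).comp hi
    all_goals simp [mul_smul, m0, m1, m2, m3, m4]
  -- image of the second
  have h23 : g • e2 = e3 := by
    have hb := hconj hB2 g
    rw [ga, gb, gc, gd] at hb
    have hb' := Block.pairs h hX hb
    have := Block.last_unique h hX hB3 hb' rfl rfl rfl rfl
    simpa using this
  by_contra h12
  have h13 : e1 ≠ e3 := fun e => h12 (MulAction.injective g (ge.trans (e.trans h23.symm)))
  have h23' : e2 ≠ e3 := by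
    intro e
    obtain ⟨i2, g2, a1, a2, a3, a4, a5⟩ := hB2
    simp only [Matrix.cons_val] at a1 a2 a3 a4 a5
    have hb := hconj ⟨i1, g, ga, gb, gc, gd, ge⟩ g2
    rw [a1, a2, a3, a4] at hb
    have hb' := Block.pairs h hX hb
    -- the image of the first is the third
    have h1' : g2 • e1 = e3 := by
      have hb3 : Block G ![a, d, c, b, g2 • e1] := hb'
      have hb3' : Block G ![a, d, b, c, g2 • e1] := by
        have := hb3.swap23
        convert this using 1
        funext i; fin_cases i <;> rfl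
      have := Block.last_unique h hX hB3 hb3' rfl rfl rfl rfl
      simpa using this
    exact h12 (MulAction.injective g2 (h1'.trans (e.symm.trans a5.symm)))
  -- the double transpositions fix all three points
  have hfix : ∀ {p q r s x : X}, Block G ![p, q, r, s, x] → ∀ k : G,
      k • p = q → k • q = p → k • r = s → k • s = r → k • x = x := by
    intro p q r s x hb k kp kq kr ks
    have hb' := hconj hb k
    rw [kp, kq, kr, ks] at hb'
    have hb'' : Block G ![p, q, r, s, k • x] := by
      have := hb'.swap01.swap23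
      convert this using 1
      funext i; fin_cases i <;> rfl
    have := Block.last_unique h hX hb hb'' rfl rfl rfl rfl
    simpa using this
  have hfixcross : ∀ {p q r s x : X}, Block G ![p, q, r, s, x] → ∀ k : G,
      k • p = r → k • r = p → k • q = s → k • s = q → k • x = x := by
    intro p q r s x hb k kp kr kq ks
    have hb' := hconj hb k
    rw [kp, kq, kr, ks] at hb'
    have := Block.last_unique h hX hb (Block.pairs h hX hb') rfl rfl rfl rfl
    simpa using this
  have hd1 : Function.Injective ![a, b, c, d] := by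
    subst ea eb ec ed
    exact inj_sub hinj 0 1 2 3 (by decide)
  obtain ⟨gp, hgp⟩ := h.exists_map (quad a b c d hd1) (quad b a d c (by
    subst ea eb ec ed
    exact inj_sub hinj 1 0 3 2 (by decide)))
  obtain ⟨gq, hgq⟩ := h.exists_map (quad a b c d hd1) (quad c d a b (by
    subst ea eb ec ed
    exact inj_sub hinj 2 3 0 1 (by decide)))
  have pa : gp • a = b := hgp 0
  have pb : gp • b = a := hgp 1
  have pc : gp • c = d := hgp 2
  have pd : gp • d = c := hgp 3
  have qa : gq • a = c := hgq 0
  have qb : gq • b = d := hgq 1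
  have qc : gq • c = a := hgq 2
  have qd : gq • d = b := hgq 3
  have hord : ∀ k : G, k * k = 1 → k • a ≠ a → orderOf k = 2 := fun k hk hka =>
    orderOf_eq_prime (by rw [pow_two]; exact hk) fun e => hka (by rw [e, one_smul])
  have hp2 : orderOf gp = 2 := by
    refine hord gp (eq_of_four h hd1 ?_ ?_ ?_ ?_) ?_
    iterate 4 simp [mul_smul, pa, pb, pc, pd]
    rw [pa, ← ea, ← eb]; exact hne 1 0 (by decide)
  have hq2 : orderOf gq = 2 := by
    refine hord gq (eq_of_four h hd1 ?_ ?_ ?_ ?_) ?_
    iterate 4 simp [mul_smul, qa, qb, qc, qd]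
    rw [qa, ← ea, ← ec]; exact hne 2 0 (by decide)
  have hB1' : Block G ![a, b, c, d, e1] := ⟨i1, g, ga, gb, gc, gd, ge⟩
  have hF : ∀ k : G, orderOf k = 2 → k • e1 = e1 → k • e2 = e2 → k • e3 = e3 →
      JordanSharp.fixF (X := X) k = {e1, e2, e3} := by
    intro k hk k1 k2 k3
    symm
    refine Finset.eq_of_subset_of_card_le (fun q hq => ?_) ?_
    · simp only [Finset.mem_insert, Finset.mem_singleton] at hq
      rcases hq with rfl | rfl | rfl <;> simp [JordanSharp.fixF, k1, k2, k3]
    · rw [Golay.inv_fix_three h hX hk, Finset.card_eq_three.2 ⟨e1, e2, e3, h12, h13, h23', rfl⟩]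
  have hB3' : Block G ![a, d, c, b, e3] := by
    have := hB3.swap23
    convert this using 1
    funext i; fin_cases i <;> rfl
  have e : gp = gq := Golay.inv_fix_unique h hX hp2 hq2
    ((hF gp hp2 (hfix hB1' gp pa pb pc pd) (hfixcross hB2 gp pa pb pc pd)
        (hfixcross hB3 gp pa pb pd pc)).trans
      (hF gq hq2 (hfixcross hB1' gq qa qc qb qd) (hfix hB2 gq qa qc qb qd)
        (hfixcross hB3' gq qa qc qd qb)).symm)
  rw [e] at pa
  have hbc : b = c := pa.symm.trans qa
  rw [← eb, ← ec] at hbc
  exact hne 1 2 (by decide) hbc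

theorem Block.perm (h : JordanSharp.Sharp G X 4) (hX : Fintype.card X = 11) {v : Fin 5 → X}
    (hv : Block G v) (σ : Equiv.Perm (Fin 5)) : Block G (v ∘ σ) := by
  have hmem : σ ∈ Submonoid.closure (Set.range fun i : Fin 4 => Equiv.swap i.castSucc i.succ) := by
    rw [Equiv.Perm.mclosure_swap_castSucc_succ]; trivial
  revert v
  induction hmem using Submonoid.closure_induction with
  | mem τ hτ =>
    intro v hv
    obtain ⟨i, rfl⟩ := hτ
    fin_cases i
    exacts [hv.swap01, hv.swap12 h hX, hv.swap23, hv.swap34]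
  | one => intro v hv; exact hv
  | mul a b _ _ iha ihb =>
    intro v hv
    exact ihb (iha hv)

/-- The blocks. -/
def blocks (G X : Type*) [Group G] [MulAction G X] [DecidableEq X] : Set (Finset X) :=
  {s | ∃ v : Fin 5 → X, Block G v ∧ Finset.univ.image v = s}

theorem blocks_steiner (h : JordanSharp.Sharp G X 4) (hX : Fintype.card X = 11) :
    IsSteinerSystem 4 5 (blocks G X) := by
  refine ⟨fun b ⟨v, hv, hb⟩ => ?_, fun s hs => ?_⟩
  · rw [← hb, Finset.card_image_of_injective _ hv.1]; rfl
  let e := (s.equivFin.trans (finCongr hs)).symm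
  have hd : Function.Injective ![(e 0).1, (e 1).1, (e 2).1, (e 3).1] := by
    have : ![(e 0).1, (e 1).1, (e 2).1, (e 3).1] = fun i => (e i).1 := by
      funext i; fin_cases i <;> rfl
    rw [this]; exact Subtype.val_injective.comp e.injective
  obtain ⟨x, hB⟩ := Block.exists_last h hX hd
  set v := ![(e 0).1, (e 1).1, (e 2).1, (e 3).1, x] with hv
  have hsv : s ⊆ Finset.univ.image v := by
    intro p hp
    obtain ⟨i, hi⟩ := e.surjective ⟨p, hp⟩
    refine Finset.mem_image.2 ⟨i.castSucc, Finset.mem_univ _, ?_⟩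
    have : v i.castSucc = (e i).1 := by fin_cases i <;> rfl
    rw [this, hi]
  refine ⟨Finset.univ.image v, ⟨⟨v, hB, rfl⟩, hsv⟩, ?_⟩
  rintro b ⟨⟨w, hw, hwb⟩, hsb⟩
  subst hwb
  -- arrange the second block like the first
  have hpick : ∀ i : Fin 4, ∃ j, w j = (e i).1 := fun i => by
    obtain ⟨j, -, hj⟩ := Finset.mem_image.1 (hsb (e i).2)
    exact ⟨j, hj⟩
  choose j hj using hpick
  have hjinj : Function.Injective j := fun a b hab =>
    e.injective (Subtype.ext (by rw [← hj a, ← hj b, hab]))
  obtain ⟨σ, hσ⟩ : ∃ σ : Equiv.Perm (Fin 5), ∀ i : Fin 4, σ i.castSucc = j i := by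
    obtain ⟨σ, hσ⟩ := Equiv.Perm.exists_extending_pair (fun i : Fin 4 => i.castSucc) j
      (Fin.castSucc_injective 4) hjinj
    exact ⟨σ, hσ⟩
  have hB' := hw.perm h hX σ
  have hval : ∀ i : Fin 4, (w ∘ σ) i.castSucc = v i.castSucc := fun i => by
    show w (σ i.castSucc) = _
    rw [hσ, hj]
    fin_cases i <;> rfl
  have hlast : (w ∘ σ) 4 = v 4 := Block.last_unique h hX hB hB' (hval 0) (hval 1) (hval 2) (hval 3)
  have heq : w ∘ σ = v := by
    funext i
    induction i using Fin.lastCases with
    | last => exact hlast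
    | cast i => exact hval i
  rw [← heq]
  ext p
  simp only [Finset.mem_image, Finset.mem_univ, true_and, Function.comp_apply]
  exact ⟨fun ⟨i, hi⟩ => ⟨σ.symm i, by rw [Equiv.apply_symm_apply, hi]⟩, fun ⟨i, hi⟩ => ⟨σ i, hi⟩⟩

theorem toPerm_mem_aut (g : G) : (MulAction.toPerm g : Equiv.Perm X) ∈ setSystemAut (blocks G X) := by
  refine Steiner.mem_aut_of_le fun b hb => ?_
  obtain ⟨v, ⟨hinj, m, m0, m1, m2, m3, m4⟩, rfl⟩ := hb
  refine ⟨fun i => g • v i, ⟨(MulAction.injective g).comp hinj, g * m * g⁻¹, ?_, ?_, ?_, ?_, ?_⟩, ?_⟩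
  all_goals first
    | (simp [mul_smul, m0, m1, m2, m3, m4]; done)
    | (rw [Finset.image_image]; rfl)

end Cfsg.Agent.Lib.Points11
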