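import Cfsg.Agent.Lib.Points11.Cliques
import Cfsg.Agent.Lib.Points11.System
import Cfsg.Agent.Lib.Classical.Order
import Cfsg.Agent.S0679

/-!
# Simple groups of order 7920 are isomorphic
-/

set_option autoImplicit false
set_option linter.unusedSectionVars false
set_option linter.style.haveILetI false

namespace Cfsg.Agent.Lib.Points11

open Cfsg Cfsg.Agent.Lib

universe u

/-- Every simple group of order 7920 is the automorphism group of a Steiner system. -/
theorem exists_system {G : Type u} [Group G] [Finite G] [IsSimpleGroup G] (hG : Nat.card G = 7920) :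
    ∃ (X : Type u) (_ : Fintype X) (_ : DecidableEq X) (B : Set (Finset X)),
      Fintype.card X = 11 ∧ IsSteinerSystem 4 5 B ∧ Nonempty (G ≃* setSystemAut B) := by
  classical
  haveI : Fact (Nat.Prime 3) := ⟨Nat.prime_three⟩
  haveI := Fintype.ofFinite (Sylow 3 G)
  haveI := Fintype.ofFinite G
  have hnc := Char.O7920.nc hG
  obtain ⟨H, hH, hidx⟩ := exists_index_le hG
  have hdvd := SmallSimple.two_mul_card_dvd_factorial hnc H hH
  have h11 : H.index = 11 := by
    rw [hG] at hdvd
    have key : ∀ n < 11, ¬ 2 * 7920 ∣ n.factorial := by decide +kernel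
    rcases lt_or_eq_of_le hidx with h | h
    · exact absurd hdvd (key _ h)
    · exact h
  let X := G ⧸ H
  haveI : Fintype X := Fintype.ofFinite _
  have hX : Fintype.card X = 11 := by
    rw [← Nat.card_eq_fintype_card]; exact h11
  set φ := MulAction.toPermHom G X with hφ
  have hinj : Function.Injective φ := by
    rw [← MonoidHom.ker_eq_bot_iff]
    refine ((inferInstance : φ.ker.Normal).eq_bot_or_eq_top).resolve_right fun h => hH ?_
    refine top_unique fun g _ => ?_
    have h1 : φ g = 1 := MonoidHom.mem_ker.1 (h ▸ Subgroup.mem_top g)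
    have h2 := congrArg (fun e : Equiv.Perm X => e ((1 : G) : X)) h1
    change g • ((1 : G) : X) = ((1 : G) : X) at h2
    rwa [MulAction.Quotient.smul_coe, smul_eq_mul, mul_one, QuotientGroup.eq, mul_one,
      Subgroup.inv_mem_iff] at h2
  set R := φ.range with hR
  have eR : G ≃* R := MonoidHom.ofInjective hinj
  have hRcard : Nat.card R = 7920 := by rw [← Nat.card_congr eR.toEquiv, hG]
  haveI : MulAction.IsPretransitive R X := ⟨fun a b => by
    obtain ⟨g, hg⟩ := MulAction.exists_smul_eq G a b
    exact ⟨⟨φ g, g, rfl⟩, hg⟩⟩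
  haveI : IsSimpleGroup R := eR.symm.isSimpleGroup
  have hsol : ¬ Group.IsSolvable R := fun h => by
    have hc : ∀ a b : R, a * b = b * a := (IsSimpleGroup.comm_iff_isSolvable).2 h
    refine hnc ⟨⟨fun a b => eR.injective ?_⟩⟩
    rw [map_mul, map_mul, hc]
  have halt : ¬ alternatingGroup X ≤ R := fun h => by
    have h1 := Subgroup.card_dvd_of_le h
    haveI : Nontrivial X := Fintype.one_lt_card_iff_nontrivial.1 (by omega)
    rw [hRcard, nat_card_alternatingGroup, Nat.card_eq_fintype_card, hX] at h1
    revert h1; decide +kernel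
  rcases Cfsg.Agent.S0679.result hX R hsol halt with ⟨h4, hsharp⟩ | ⟨⟨e⟩⟩
  · haveI : Fintype R := Fintype.ofFinite R
    have hS := JordanSharp.Sharp.of_perm h4 hsharp
    refine ⟨X, inferInstance, inferInstance, blocks R X, hX, blocks_steiner hS hX, ?_⟩
    have hle : R ≤ setSystemAut (blocks R X) := fun σ hσ => by
      have := toPerm_mem_aut (X := X) (⟨σ, hσ⟩ : R)
      exact this
    obtain ⟨d, hd, p, hp, ⟨E⟩⟩ := Steiner.aut11_equiv hX (blocks_steiner hS hX)
    have heq : R = setSystemAut (blocks R X) := Subgroup.eq_of_le_of_card_ge hle (by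
      rw [Nat.card_congr E.toEquiv, Golay.stSetPt_card hd hp, hRcard])
    exact ⟨eR.trans (MulEquiv.subgroupCongr heq)⟩
  · exfalso
    haveI : Fact (Nat.Prime 11) := ⟨by norm_num⟩
    have h660 := Classical.two_mul_card_PSL_two_of_odd (F := ZMod 11) (by rw [ZMod.card]; decide)
    rw [ZMod.card] at h660
    have he := Nat.card_congr e.toEquiv
    rw [hRcard] at he
    norm_num only at h660
    omega

/-- Any two simple groups of order 7920 are isomorphic to one stabiliser. -/
theorem exists_equiv_standard :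
    ∃ d ∈ dodecads, ∃ p ∈ d, ∀ (G : Type u) [Group G] [Finite G] [IsSimpleGroup G],
      Nat.card G = 7920 → Nonempty (G ≃* Golay.stSetPt d p) := by
  obtain ⟨d, hd⟩ := Steiner.exists_dodecad
  obtain ⟨p, hp⟩ : d.Nonempty := Finset.card_pos.1 (by rw [Golay.dodecads_card hd]; norm_num)
  refine ⟨d, hd, p, hp, fun G _ _ _ hG => ?_⟩
  haveI := Golay.stSetPt_simple hd hp
  obtain ⟨X, _, _, B, hX, hB, ⟨e⟩⟩ := exists_system hG
  obtain ⟨Y, _, _, B', hY, hB', ⟨e'⟩⟩ :=
    exists_system (G := Golay.stSetPt d p) (Golay.stSetPt_card hd hp)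
  obtain ⟨f, E, -⟩ := Steiner.exists_autEquiv (Steiner.iso11 hX hB hY hB')
  exact ⟨(e.trans E).trans e'.symm⟩

end Cfsg.Agent.Lib.Points11
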