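import Cfsg.Agent.Lib.Points11.Graph
import Mathlib.Data.Finset.Card

/-!
# The eleven cliques of size ten
-/

set_option autoImplicit false
set_option linter.unusedSectionVars false
set_option linter.style.haveILetI false

namespace Cfsg.Agent.Lib.Points11

open Cfsg Cfsg.Agent.Lib Cfsg.Agent.Lib.Char.O7920 Subgroup
open scoped Pointwise Classical

universe u

variable {G : Type u} [Group G] [Finite G] [IsSimpleGroup G] [Fact (Nat.Prime 3)]
variable [Fintype (Sylow 3 G)]

/-- The neighbours. -/
noncomputable def nbrs (P : Sylow 3 G) : Finset (Sylow 3 G) := Finset.univ.filter fun X => Adj P X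

/-- The number of common neighbours. -/
noncomputable def cn (P Q : Sylow 3 G) : ℕ := (nbrs P ∩ nbrs Q).card

theorem mem_nbrs {P X : Sylow 3 G} : X ∈ nbrs P ↔ Adj P X := by simp [nbrs]

theorem card_nbrs (hG : Nat.card G = 7920) (P : Sylow 3 G) : (nbrs P).card = 18 := by
  rw [nbrs, ← Fintype.card_subtype, ← Nat.card_eq_fintype_card, nbrs_card hG P]

theorem cn_smul (P Q : Sylow 3 G) (g : G) : cn (g • P) (g • Q) = cn P Q := by
  refine Finset.card_bij' (fun X _ => g⁻¹ • X) (fun X _ => g • X) ?_ ?_
    (fun X _ => smul_inv_smul g X) (fun X _ => inv_smul_smul g X)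
  · intro X hX
    simp only [Finset.mem_inter, mem_nbrs] at hX ⊢
    exact ⟨(adj_smul_iff g).1 (by rw [smul_inv_smul]; exact hX.1),
      (adj_smul_iff g).1 (by rw [smul_inv_smul]; exact hX.2)⟩
  · intro X hX
    simp only [Finset.mem_inter, mem_nbrs] at hX ⊢
    exact ⟨hX.1.smul g, hX.2.smul g⟩

theorem cn_eq_of_adj (hG : Nat.card G = 7920) {P Q P' Q' : Sylow 3 G} (h : Adj P Q)
    (h' : Adj P' Q') : cn P' Q' = cn P Q := by
  obtain ⟨g, rfl⟩ := MulAction.exists_smul_eq G P P'
  obtain ⟨n, hn, rfl⟩ := (h.smul g).exists_map hG h'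
  nth_rewrite 1 [← hn]
  rw [cn_smul, cn_smul]

theorem cn_eq_of_not_adj (hG : Nat.card G = 7920) {P Q P' Q' : Sylow 3 G} (h0 : P ≠ Q)
    (h : ¬ Adj P Q) (h0' : P' ≠ Q') (h' : ¬ Adj P' Q') : cn P' Q' = cn P Q := by
  obtain ⟨g, rfl⟩ := MulAction.exists_smul_eq G P P'
  obtain ⟨n, hn, rfl⟩ := exists_map_of_not_adj hG (fun e => h0 (MulAction.injective g e))
    (fun e => h ((adj_smul_iff g).1 e)) h0' h'
  simp only at hn ⊢
  nth_rewrite 1 [← hn]
  rw [cn_smul, cn_smul]

theorem sum_cn (hG : Nat.card G = 7920) (P : Sylow 3 G) : ∑ Q, cn P Q = 324 := by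
  have e : ∀ Q, cn P Q = ∑ X ∈ nbrs P, if Adj X Q then 1 else 0 := by
    intro Q
    rw [← Finset.card_filter]
    refine congrArg Finset.card (Finset.ext fun X => ?_)
    simp only [Finset.mem_inter, Finset.mem_filter, mem_nbrs]
    exact ⟨fun h => ⟨h.1, h.2.symm⟩, fun h => ⟨h.1, h.2.symm⟩⟩
  rw [Finset.sum_congr rfl fun Q _ => e Q, Finset.sum_comm]
  rw [Finset.sum_congr rfl fun X _ => show (∑ Q, if Adj X Q then 1 else 0) = 18 by
    rw [← Finset.card_filter]; exact card_nbrs hG X]
  rw [Finset.sum_const, card_nbrs hG P]; rfl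

theorem exists_not_adj (hG : Nat.card G = 7920) (P : Sylow 3 G) : ∃ Z, P ≠ Z ∧ ¬ Adj P Z := by
  by_contra hc
  push Not at hc
  have h : (Finset.univ.erase P) ⊆ nbrs P := fun X hX => mem_nbrs.2 (hc X (Finset.ne_of_mem_erase hX).symm)
  have := Finset.card_le_card h
  rw [card_nbrs hG P, Finset.card_erase_of_mem (Finset.mem_univ _), Finset.card_univ,
    ← Nat.card_eq_fintype_card, card_sylow_three hG] at this
  omega

theorem cn_relation (hG : Nat.card G = 7920) {P Q Z : Sylow 3 G} (h : Adj P Q) (h0 : P ≠ Z)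
    (hZ : ¬ Adj P Z) : cn P Q + 2 * cn P Z = 17 := by
  have e := sum_cn hG P
  rw [← Finset.add_sum_erase _ _ (Finset.mem_univ P),
    show cn P P = 18 by rw [cn, Finset.inter_self, card_nbrs hG P],
    ← Finset.sum_filter_add_sum_filter_not (Finset.univ.erase P) (fun X => Adj P X)] at e
  have e1 : (Finset.univ.erase P).filter (fun X => Adj P X) = nbrs P := by
    ext X
    simp only [Finset.mem_filter, Finset.mem_erase, Finset.mem_univ, mem_nbrs]
    exact ⟨fun h => h.2, fun h => ⟨⟨h.1.symm, trivial⟩, h⟩⟩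
  rw [e1, Finset.sum_congr rfl fun X hX => cn_eq_of_adj hG h (mem_nbrs.1 hX),
    Finset.sum_congr rfl fun X hX => cn_eq_of_not_adj hG h0 hZ
      (Finset.ne_of_mem_erase (Finset.mem_filter.1 hX).1).symm (Finset.mem_filter.1 hX).2,
    Finset.sum_const, Finset.sum_const, card_nbrs hG P] at e
  have h36 : ((Finset.univ.erase P).filter fun X => ¬ Adj P X).card = 36 := by
    have h1 := Finset.card_filter_add_card_filter_not (s := Finset.univ.erase P) (fun X => Adj P X)
    rw [e1, card_nbrs hG P, Finset.card_erase_of_mem (Finset.mem_univ _), Finset.card_univ,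
      ← Nat.card_eq_fintype_card, card_sylow_three hG] at h1
    omega
  rw [h36, smul_eq_mul, smul_eq_mul] at e
  omega

/-- In a triple either all or none of an orbit is adjacent to the second point. -/
theorem Tri.all_or_none (hG : Nat.card G = 7920) {s : G} {P Q R : Sylow 3 G} (h : Tri s P Q R)
    {B : Sylow 3 G} (hB : B = Q ∨ B = R) {X Y : Sylow 3 G} (hX : SameOrb P B X) (hXB : X ≠ B)
    (hY : SameOrb P B Y) (hYB : Y ≠ B) (hA : Adj Q X) : Adj Q Y := by
  obtain ⟨u, hu, rfl⟩ := hX
  obtain ⟨v, hv, rfl⟩ := hY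
  obtain ⟨k, hkP, hkQ, hkR, hk⟩ := h.stab_transitive hG hu (fun e => hXB (by rw [e, one_smul])) hv
    (fun e => hYB (by rw [e, one_smul]))
  have hkB : k • B = B := by rcases hB with rfl | rfl <;> assumption
  have h' := hA.smul k
  rwa [hkQ, show k • u • B = v • B by
    rw [← hk, mul_smul, mul_smul, inv_smul_eq_iff.2 hkB.symm]] at h'

/-- The set of the orbit. -/
noncomputable def orbF (P Q : Sylow 3 G) : Finset (Sylow 3 G) :=
  Finset.univ.filter fun X => SameOrb P Q X

theorem card_orbF (hG : Nat.card G = 7920) {P Q : Sylow 3 G} (hne : P ≠ Q) : (orbF P Q).card = 9 := by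
  rw [orbF, ← Fintype.card_subtype, ← Nat.card_eq_fintype_card, card_orb hG hne]

theorem mem_orbF {P Q X : Sylow 3 G} : X ∈ orbF P Q ↔ SameOrb P Q X := by simp [orbF]

/-- No closed set of nineteen subgroups. -/
theorem cn_ne_seventeen (hG : Nat.card G = 7920) {P Q : Sylow 3 G} (h : Adj P Q) : cn P Q ≠ 17 := by
  intro h17
  set S := insert P (nbrs P) with hS
  have key : ∀ X, Adj P X → insert X (nbrs X) = S := by
    intro X hX
    symm
    refine Finset.eq_of_subset_of_card_le (fun Y hY => ?_) ?_
    · rw [hS, Finset.mem_insert, mem_nbrs] at hY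
      rcases hY with rfl | hY
      · exact Finset.mem_insert_of_mem (mem_nbrs.2 hX.symm)
      by_cases hYX : Y = X
      · exact hYX ▸ Finset.mem_insert_self _ _
      refine Finset.mem_insert_of_mem ?_
      have hle : nbrs P ∩ nbrs X ⊆ (nbrs P).erase X := fun W hW => Finset.mem_erase.2
        ⟨((mem_nbrs.1 (Finset.mem_inter.1 hW).2).1).symm, (Finset.mem_inter.1 hW).1⟩
      have heq := Finset.eq_of_subset_of_card_le hle (by
        rw [Finset.card_erase_of_mem (mem_nbrs.2 hX), card_nbrs hG P]
        have := cn_eq_of_adj hG h hX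
        rw [h17, cn] at this
        omega)
      exact (Finset.mem_inter.1 (heq.ge (Finset.mem_erase.2 ⟨hYX, mem_nbrs.2 hY⟩))).2
    · rw [hS, Finset.card_insert_of_notMem (fun e => (mem_nbrs.1 e).1 rfl), card_nbrs hG,
        Finset.card_insert_of_notMem (fun e => (mem_nbrs.1 e).1 rfl), card_nbrs hG]
  have himg : ∀ (g : G) (A : Sylow 3 G), (nbrs A).image (g • ·) = nbrs (g • A) := by
    intro g A
    ext Y
    simp only [Finset.mem_image, mem_nbrs]
    constructor
    · rintro ⟨Z, hZ, rfl⟩; exact hZ.smul g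
    · intro hY; exact ⟨g⁻¹ • Y, (adj_smul_iff g).1 (by rwa [smul_inv_smul]), smul_inv_smul g Y⟩
  have hstab : ∀ g : G, g • P ∈ S → g • S = S := by
    intro g hg
    rw [Finset.smul_finset_def, hS, Finset.image_insert, himg]
    rw [hS, Finset.mem_insert, mem_nbrs] at hg
    rcases hg with e | e
    · rw [e]
    · exact key _ e
  set H := MulAction.stabilizer G S with hH
  have horb : MulAction.orbit H P = (S : Set (Sylow 3 G)) := by
    ext X
    constructor
    · rintro ⟨g, rfl⟩
      have h' : (g : G) • P ∈ (g : G) • S :=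
        Finset.smul_mem_smul_finset (Finset.mem_insert_self P _)
      rwa [(MulAction.mem_stabilizer_iff.1 g.2)] at h'
    · intro hX
      obtain ⟨g, rfl⟩ := MulAction.exists_smul_eq G P X
      exact ⟨⟨g, hstab g hX⟩, rfl⟩
  have hst : Nat.card (MulAction.stabilizer H P) = 144 := by
    rw [← card_normalizer hG P]
    refine Nat.card_congr ⟨fun c => ⟨(c.1 : G), Sylow.smul_eq_iff_mem_normalizer.1 c.2⟩,
      fun n => ⟨⟨n.1, hstab n.1 (by
        rw [Sylow.smul_eq_iff_mem_normalizer.2 n.2]; exact Finset.mem_insert_self _ _)⟩,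
        Sylow.smul_eq_iff_mem_normalizer.2 n.2⟩, fun _ => rfl, fun _ => rfl⟩
  have h1 := (MulAction.stabilizer H P).card_mul_index
  rw [hst, MulAction.index_stabilizer, horb, Set.ncard_coe_finset, hS,
    Finset.card_insert_of_notMem (fun e => (mem_nbrs.1 e).1 rfl), card_nbrs hG] at h1
  have h2 := card_subgroup_dvd_card H
  rw [← h1, hG] at h2
  norm_num at h2

/-- The common neighbours of two adjacent subgroups. -/
theorem Tri.common (hG : Nat.card G = 7920) {s : G} {P Q R : Sylow 3 G} (h : Tri s P Q R)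
    (X : Sylow 3 G) : Adj P X ∧ Adj Q X ↔ X = R ∨ (X ≠ Q ∧ SameOrb P Q X) := by
  have hPQ := h.adj
  have hPR := h.swap23.adj
  have hQR := h.swap12.swap23.adj
  -- the two alternatives in each orbit
  by_cases ha : ∀ X, X ≠ Q → SameOrb P Q X → Adj Q X
  · by_cases hb : ∃ X, X ≠ R ∧ SameOrb P R X ∧ Adj Q X
    · -- every neighbour of P is adjacent to Q
      exfalso
      obtain ⟨X0, hX0, hX0o, hX0a⟩ := hb
      refine cn_ne_seventeen hG hPQ ?_
      have e : nbrs P ∩ nbrs Q = (nbrs P).erase Q := by
        ext Y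
        simp only [Finset.mem_inter, Finset.mem_erase, mem_nbrs]
        refine ⟨fun hY => ⟨hY.2.1.symm, hY.1⟩, fun hY => ⟨hY.2, ?_⟩⟩
        rcases (h.adj_iff hG Y).1 hY.2 with hY' | hY'
        · exact ha Y hY.1 hY'
        · by_cases hYR : Y = R
          · exact hYR ▸ hQR
          · exact h.all_or_none hG (Or.inr rfl) hX0o hX0 hY' hYR hX0a
      rw [cn, e, Finset.card_erase_of_mem (mem_nbrs.2 hPQ), card_nbrs hG]
    · push Not at hb
      constructor
      · rintro ⟨h1, h2⟩
        rcases (h.adj_iff hG X).1 h1 with h' | h'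
        · exact Or.inr ⟨h2.1.symm, h'⟩
        · by_cases hXR : X = R
          · exact Or.inl hXR
          · exact absurd h2 (hb X hXR h')
      · rintro (rfl | ⟨h1, h2⟩)
        · exact ⟨hPR, hQR⟩
        · exact ⟨(h.adj_iff hG X).2 (Or.inl h2), ha X h1 h2⟩
  · exfalso
    push Not at ha
    obtain ⟨X0, hX0, hX0o, hX0a⟩ := ha
    have hnone : ∀ Y, Y ≠ Q → SameOrb P Q Y → ¬ Adj Q Y := fun Y hY hYo hYa =>
      hX0a (h.all_or_none hG (Or.inl rfl) hYo hY hX0o hX0 hYa)
    obtain ⟨Z, hZ0, hZ⟩ := exists_not_adj hG P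
    have hrel := cn_relation hG hPQ hZ0 hZ
    by_cases hb : ∃ X, X ≠ R ∧ SameOrb P R X ∧ Adj Q X
    · obtain ⟨W, hW, hWo, hWa⟩ := hb
      have hall : ∀ Y, SameOrb P R Y → Adj Q Y := fun Y hY => by
        by_cases hYR : Y = R
        · exact hYR ▸ hQR
        · exact h.all_or_none hG (Or.inr rfl) hWo hW hY hYR hWa
      have e : nbrs P ∩ nbrs Q = orbF P R := by
        ext Y
        simp only [Finset.mem_inter, mem_nbrs, mem_orbF]
        refine ⟨fun hY => ?_, fun hY => ⟨(h.adj_iff hG Y).2 (Or.inr hY), hall Y hY⟩⟩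
        rcases (h.adj_iff hG Y).1 hY.1 with h' | h'
        · exact absurd hY.2 (hnone Y hY.2.1.symm h')
        · exact h'
      have h9 : cn P Q = 9 := by rw [cn, e, card_orbF hG h.neR]
      -- two points of the orbit have ten common neighbours
      have hmu : cn P Z = cn Q X0 := cn_eq_of_not_adj hG (Ne.symm hX0) hX0a hZ0 hZ
      obtain ⟨u, hu, hux⟩ := hX0o
      have hsub : insert P (orbF P R) ⊆ nbrs Q ∩ nbrs X0 := by
        intro Y hY
        rw [Finset.mem_insert, mem_orbF] at hY
        simp only [Finset.mem_inter, mem_nbrs]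
        rcases hY with rfl | hY
        · exact ⟨hPQ.symm, (by
            have := hPQ.symm.smul u
            rwa [hux, smul_self_of_mem hu] at this)⟩
        · refine ⟨hall Y hY, ?_⟩
          have hY' : SameOrb P R (u⁻¹ • Y) := hY.trans ⟨u⁻¹, inv_mem hu, rfl⟩
          have := (hall _ hY').smul u
          rwa [hux, smul_inv_smul] at this
      have := Finset.card_le_card hsub
      rw [Finset.card_insert_of_notMem
        (fun e => (SameOrb.ne (mem_orbF.1 e) h.neR) rfl), card_orbF hG h.neR, ← cn] at this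
      omega
    · -- one common neighbour
      push Not at hb
      have e : nbrs P ∩ nbrs Q = {R} := by
        ext Y
        simp only [Finset.mem_inter, mem_nbrs, Finset.mem_singleton]
        refine ⟨fun hY => ?_, fun hY => hY ▸ ⟨hPR, hQR⟩⟩
        rcases (h.adj_iff hG Y).1 hY.1 with h' | h'
        · exact absurd hY.2 (hnone Y hY.2.1.symm h')
        · by_contra hYR
          exact hb Y hYR h' hY.2
      have h1 : cn P Q = 1 := by rw [cn, e, Finset.card_singleton]
      have h8 : cn P Z = 8 := by omega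
      let A : Matrix (Sylow 3 G) (Sylow 3 G) ℝ := fun a b => if Adj a b then 1 else 0
      let J : Matrix (Sylow 3 G) (Sylow 3 G) ℝ := fun _ _ => 1
      have hX55 : Fintype.card (Sylow 3 G) = 55 := by
        rw [← Nat.card_eq_fintype_card]; exact card_sylow_three hG
      have hrow : ∀ a : Sylow 3 G, (∑ b, if Adj a b then (1 : ℝ) else 0) = 18 := fun a => by
        rw [Finset.sum_boole]
        exact_mod_cast card_nbrs hG a
      have hA : ∀ a b, A a b = if Adj a b then 1 else 0 := fun _ _ => rfl
      have hJ : ∀ a b, J a b = 1 := fun _ _ => rfl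
      clear_value A J
      refine no_graph_one_eight hX55 A J hJ ?_ ?_ ?_ ?_
      · ext a b
        have hmul : (A * A) a b = (cn a b : ℝ) := by
          rw [Matrix.mul_apply, cn]
          simp only [hA, ite_mul, one_mul, zero_mul]
          rw [Finset.sum_congr rfl (g := fun c => if (Adj a c ∧ Adj b c) then (1 : ℝ) else 0)
            (fun c _ => by
              by_cases h1 : Adj a c <;> by_cases h2 : Adj c b
              · rw [if_pos h1, if_pos h2, if_pos ⟨h1, h2.symm⟩]
              · rw [if_pos h1, if_neg h2, if_neg fun h => h2 h.2.symm]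
              · rw [if_neg h1, if_neg fun h => h1 h.1]
              · rw [if_neg h1, if_neg fun h => h1 h.1]), Finset.sum_boole]
          congr 2
          ext c
          simp [mem_nbrs]
        rw [hmul]
        simp only [Matrix.sub_apply, Matrix.add_apply, Matrix.smul_apply, Matrix.one_apply, hA, hJ,
          smul_eq_mul]
        by_cases hab : a = b
        · subst hab
          rw [if_pos rfl, if_neg fun h => h.1 rfl, cn, Finset.inter_self, card_nbrs hG]
          norm_num
        · by_cases hadj : Adj a b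
          · rw [if_neg hab, if_pos hadj, cn_eq_of_adj hG hPQ hadj, h1]; norm_num
          · rw [if_neg hab, if_neg hadj, cn_eq_of_not_adj hG hZ0 hZ hab hadj, h8]; norm_num
      · ext a b
        simp only [Matrix.mul_apply, hA, hJ, mul_one, Matrix.smul_apply, smul_eq_mul]
        exact hrow a
      · ext a b
        simp only [Matrix.mul_apply, hA, hJ, one_mul, Matrix.smul_apply, smul_eq_mul, mul_one]
        rw [← hrow b]
        exact Finset.sum_congr rfl fun c _ => if_congr ⟨Adj.symm, Adj.symm⟩ rfl rfl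
      · simp [Matrix.trace, hA, Adj]

/-- The clique of an adjacent pair. -/
noncomputable def line (P Q : Sylow 3 G) : Finset (Sylow 3 G) := insert P (orbF P Q)

theorem line_symm (hG : Nat.card G = 7920) {P Q : Sylow 3 G} (h : Adj P Q) : line Q P = line P Q := by
  obtain ⟨s, R, ht⟩ := h.exists_tri hG
  have key : ∀ {s : G} {P Q R : Sylow 3 G}, Tri s P Q R → ∀ X, (X ∈ line P Q ↔
      X = P ∨ X = Q ∨ (X ≠ R ∧ Adj P X ∧ Adj Q X)) := by
    intro s P Q R ht X
    rw [line, Finset.mem_insert, mem_orbF, ht.common hG X]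
    constructor
    · rintro (h | h)
      · exact Or.inl h
      · by_cases hXQ : X = Q
        · exact Or.inr (Or.inl hXQ)
        · exact Or.inr (Or.inr ⟨fun e => ht.not_sameOrb hG (e ▸ h), Or.inr ⟨hXQ, h⟩⟩)
    · rintro (h | rfl | ⟨h1, h2 | h2⟩)
      · exact Or.inl h
      · exact Or.inr (SameOrb.refl _ _)
      · exact absurd h2 h1
      · exact Or.inr h2.2
  ext X
  rw [key ht.swap12, key ht]
  tauto

theorem line_orb {P Q X : Sylow 3 G} (h : SameOrb P Q X) : line P X = line P Q := by
  ext Y
  simp only [line, Finset.mem_insert, mem_orbF]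
  exact or_congr_right ⟨fun h' => h.trans h', fun h' => h.symm.trans h'⟩

theorem smul_orbF (g : G) (P Q : Sylow 3 G) : (orbF P Q).image (g • ·) = orbF (g • P) (g • Q) := by
  ext X
  simp only [Finset.mem_image, mem_orbF]
  constructor
  · rintro ⟨Y, ⟨u, hu, rfl⟩, rfl⟩
    refine ⟨g * u * g⁻¹, (smul_mem_iff g P).2 (by simpa [mul_assoc] using hu), ?_⟩
    rw [mul_smul, mul_smul, inv_smul_smul]
  · rintro ⟨u, hu, rfl⟩
    refine ⟨(g⁻¹ * u * g) • Q, ⟨_, (smul_mem_iff g P).1 hu, rfl⟩, ?_⟩
    rw [mul_smul, mul_smul, smul_inv_smul]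

theorem smul_line (g : G) (P Q : Sylow 3 G) : g • line P Q = line (g • P) (g • Q) := by
  rw [Finset.smul_finset_def, line, line, Finset.image_insert, smul_orbF]

/-- There is a subgroup of index at most eleven. -/
theorem exists_index_le (hG : Nat.card G = 7920) :
    ∃ H : Subgroup G, H ≠ ⊤ ∧ H.index ≤ 11 := by
  obtain ⟨P⟩ : Nonempty (Sylow 3 G) := inferInstance
  obtain ⟨Q, hPQ⟩ := exists_adj hG P
  set L := line P Q with hL
  have hLcard : ∀ g : G, (g • L).card = 10 := fun g => by
    rw [Finset.card_smul_finset, hL, line,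
      Finset.card_insert_of_notMem (fun e => (SameOrb.ne (mem_orbF.1 e) hPQ.1) rfl), card_orbF hG hPQ.1]
  refine ⟨MulAction.stabilizer G L, ?_, ?_⟩
  · intro htop
    have hall : ∀ X, X ∈ L := by
      intro X
      obtain ⟨g, rfl⟩ := MulAction.exists_smul_eq G P X
      have hg : g • L = L := MulAction.mem_stabilizer_iff.1 (htop ▸ mem_top g)
      rw [← hg]
      exact Finset.smul_mem_smul_finset (Finset.mem_insert_self _ _)
    have h55 : (Finset.univ : Finset (Sylow 3 G)).card ≤ L.card := Finset.card_le_card fun X _ => hall X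
    have h10 := hLcard 1
    rw [one_smul] at h10
    rw [Finset.card_univ, ← Nat.card_eq_fintype_card, card_sylow_three hG] at h55
    omega
  · haveI := Fintype.ofFinite G
    set O := Finset.univ.image fun g : G => g • L with hO
    have hidx : (MulAction.stabilizer G L).index = O.card := by
      rw [MulAction.index_stabilizer, ← Set.ncard_coe_finset, hO, Finset.coe_image, Finset.coe_univ,
        Set.image_univ]
      rfl
    rw [hidx]
    -- each point lies on at most two members
    have htwo : ∀ X, (O.filter fun M => X ∈ M).card ≤ 2 := by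
      intro X
      obtain ⟨Y, hXY⟩ := exists_adj hG X
      obtain ⟨s, R, ht⟩ := hXY.exists_tri hG
      refine (Finset.card_le_card (t := {line X Y, line X R}) fun M hM => ?_).trans (Finset.card_le_two)
      obtain ⟨hMO, hXM⟩ := Finset.mem_filter.1 hM
      obtain ⟨g, -, rfl⟩ := Finset.mem_image.1 hMO
      rw [hL, smul_line] at hXM ⊢
      have hadj := hPQ.smul g
      -- the line is the line of X and another of its points
      obtain ⟨W, hW, hWe⟩ : ∃ W, Adj X W ∧ line (g • P) (g • Q) = line X W := by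
        rcases Finset.mem_insert.1 hXM with rfl | h'
        · exact ⟨g • Q, hadj, rfl⟩
        · rw [mem_orbF] at h'
          have hadj' : Adj (g • P) X := by
            obtain ⟨v, hv, rfl⟩ := h'
            have := hadj.smul v
            rwa [smul_self_of_mem hv] at this
          exact ⟨g • P, hadj'.symm, by rw [line_symm hG hadj', line_orb h']⟩
      rw [hWe, Finset.mem_insert, Finset.mem_singleton]
      rcases (ht.adj_iff hG W).1 hW with h' | h'
      · exact Or.inl (line_orb h')
      · exact Or.inr (line_orb h')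
    have hsum : ∑ M ∈ O, M.card = O.card * 10 := by
      rw [Finset.sum_congr rfl (g := fun _ => 10) (fun M hM => by
        obtain ⟨g, -, rfl⟩ := Finset.mem_image.1 hM; exact hLcard g), Finset.sum_const, smul_eq_mul]
    have hsum2 : ∑ M ∈ O, M.card = ∑ X, (O.filter fun M => X ∈ M).card := by
      simp only [Finset.card_filter]
      rw [Finset.sum_comm]
      refine Finset.sum_congr rfl fun M _ => ?_
      rw [← Finset.card_filter]
      exact congrArg Finset.card (Finset.ext fun X => by simp)
    have hle : ∑ X, (O.filter fun M => X ∈ M).card ≤ ∑ _X : Sylow 3 G, 2 :=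
      Finset.sum_le_sum fun X _ => htwo X
    rw [Finset.sum_const, Finset.card_univ, ← Nat.card_eq_fintype_card, card_sylow_three hG,
      smul_eq_mul] at hle
    omega

end Cfsg.Agent.Lib.Points11
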