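import Mathlib.LinearAlgebra.Trace
import Mathlib.LinearAlgebra.Matrix.ToLin
import Mathlib.LinearAlgebra.Projection
import Mathlib.Data.Real.Sqrt

/-!
# No regular graph on fifty-five vertices with parameters eighteen, one, eight
-/

set_option autoImplicit false

namespace Cfsg.Agent.Lib.Points11

open Matrix

/-- The trace of an idempotent matrix is a natural number. -/
theorem exists_nat_trace {X : Type*} [Fintype X] [DecidableEq X] (E : Matrix X X ℝ)
    (hE : E * E = E) : ∃ r : ℕ, E.trace = r := by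
  have hf : IsIdempotentElem (Matrix.toLin' E) := by
    show Matrix.toLin' E * Matrix.toLin' E = Matrix.toLin' E
    rw [Module.End.mul_eq_comp, ← Matrix.toLin'_mul, hE]
  refine ⟨Module.finrank ℝ (LinearMap.range (Matrix.toLin' E)), ?_⟩
  rw [← Matrix.trace_toLin'_eq]
  exact (LinearMap.IsProj.trace (f := Matrix.toLin' E)
    ((LinearMap.isProj_range_iff_isIdempotentElem _).2 hf))

/-- The relations of such a graph are contradictory. -/
theorem no_graph_one_eight {X : Type*} [Fintype X] [DecidableEq X] (hX : Fintype.card X = 55)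
    (A J : Matrix X X ℝ) (hJ : ∀ i j, J i j = 1) (hA2 : A * A = (10 : ℝ) • 1 - (7 : ℝ) • A + (8 : ℝ) • J)
    (hAJ : A * J = (18 : ℝ) • J) (hJA : J * A = (18 : ℝ) • J) (htr : A.trace = 0) : False := by
  have hJJ : J * J = (55 : ℝ) • J := by
    ext i j
    simp [Matrix.mul_apply, hJ, hX]
  have htJ : J.trace = 55 := by simp [Matrix.trace, hJ, hX]
  have ht1 : (1 : Matrix X X ℝ).trace = 55 := by simp [Matrix.trace_one, hX]
  set C : Matrix X X ℝ := (2 : ℝ) • A + (7 : ℝ) • 1 - (43 / 55 : ℝ) • J with hC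
  set Q : Matrix X X ℝ := 1 - (1 / 55 : ℝ) • J with hQ
  have hCC : C * C = (89 : ℝ) • Q := by
    simp only [hC, hQ, mul_sub, sub_mul, mul_add, add_mul, smul_mul_assoc, mul_smul_comm,
      mul_one, one_mul, hA2, hAJ, hJA, hJJ, smul_sub, smul_add, smul_smul]
    module
  have hCQ : C * Q = C := by
    simp only [hC, hQ, mul_sub, sub_mul, mul_add, add_mul, smul_mul_assoc, mul_smul_comm,
      mul_one, one_mul, hA2, hAJ, hJA, hJJ, smul_sub, smul_add, smul_smul]
    module
  have hQC : Q * C = C := by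
    simp only [hC, hQ, mul_sub, sub_mul, mul_add, add_mul, smul_mul_assoc, mul_smul_comm,
      mul_one, one_mul, hA2, hAJ, hJA, hJJ, smul_sub, smul_add, smul_smul]
    module
  have hQQ : Q * Q = Q := by
    simp only [hQ, mul_sub, sub_mul, smul_mul_assoc, mul_smul_comm,
      mul_one, one_mul, hJJ, smul_sub, smul_smul]
    module
  set q : ℝ := Real.sqrt 89 with hq
  have hq0 : q ≠ 0 := Real.sqrt_ne_zero'.2 (by norm_num)
  have hqq : q * q = 89 := Real.mul_self_sqrt (by norm_num)
  have hE : ((1 / 2 : ℝ) • Q + (1 / (2 * q)) • C) * ((1 / 2 : ℝ) • Q + (1 / (2 * q)) • C) =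
      (1 / 2 : ℝ) • Q + (1 / (2 * q)) • C := by
    simp only [mul_add, add_mul, smul_mul_assoc, mul_smul_comm, hQQ, hCQ, hQC, hCC, smul_add, smul_smul]
    have e : 1 / (2 * q) * (1 / (2 * q) * 89) = (1 / 4 : ℝ) := by
      field_simp
      linear_combination -4 * hqq
    rw [e]
    module
  obtain ⟨r, hr⟩ := exists_nat_trace _ hE
  have htC : C.trace = 342 := by
    simp only [hC, Matrix.trace_sub, Matrix.trace_add, Matrix.trace_smul, htr, htJ, ht1, smul_eq_mul]
    norm_num
  have htQ : Q.trace = 54 := by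
    simp only [hQ, Matrix.trace_sub, Matrix.trace_smul, htJ, ht1, smul_eq_mul]
    norm_num
  rw [Matrix.trace_add, Matrix.trace_smul, Matrix.trace_smul, htC, htQ, smul_eq_mul, smul_eq_mul] at hr
  have h1 : (342 : ℝ) = q * (2 * (r : ℝ) - 54) := by
    field_simp at hr
    linear_combination hr
  have h2 : ((342 * 342 : ℤ) : ℝ) = ((89 * ((2 * (r : ℤ) - 54) * (2 * (r : ℤ) - 54)) : ℤ) : ℝ) := by
    push_cast
    rw [show (116964 : ℝ) = 342 * 342 by norm_num]
    calc (342 : ℝ) * 342 = (q * (2 * (r : ℝ) - 54)) * (q * (2 * (r : ℝ) - 54)) := by rw [← h1]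
      _ = (q * q) * ((2 * (r : ℝ) - 54) * (2 * (r : ℝ) - 54)) := by ring
      _ = _ := by rw [hqq]
  have h3 : (89 : ℤ) ∣ 342 * 342 := ⟨_, by exact_mod_cast h2⟩
  norm_num at h3

end Cfsg.Agent.Lib.Points11
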