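import Cfsg.Agent.Lib.Points11.Triangles
import Cfsg.Agent.Lib.Points11.Trace

/-!
# The graph on the fifty-five Sylow subgroups for three and its eleven cliques
-/

set_option autoImplicit false
set_option linter.unusedSectionVars false
set_option linter.style.haveILetI false

namespace Cfsg.Agent.Lib.Points11

open Cfsg Cfsg.Agent.Lib Cfsg.Agent.Lib.Char.O7920 Subgroup
open scoped Pointwise Classical

universe u

variable {G : Type u} [Group G] [Finite G] [IsSimpleGroup G] [Fact (Nat.Prime 3)]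

/-- Adjacency: some involution inverts both. -/
def Adj (P Q : Sylow 3 G) : Prop := P ≠ Q ∧ ∃ s, Inv s P ∧ Inv s Q

theorem Adj.symm {P Q : Sylow 3 G} (h : Adj P Q) : Adj Q P :=
  ⟨h.1.symm, h.2.imp fun _ ⟨a, b⟩ => ⟨b, a⟩⟩

theorem Adj.smul {P Q : Sylow 3 G} (h : Adj P Q) (g : G) : Adj (g • P) (g • Q) := by
  obtain ⟨hne, s, hP, hQ⟩ := h
  exact ⟨fun e => hne (MulAction.injective g e), g * s * g⁻¹, hP.conj g, hQ.conj g⟩

theorem adj_smul_iff {P Q : Sylow 3 G} (g : G) : Adj (g • P) (g • Q) ↔ Adj P Q :=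
  ⟨fun h => by simpa using h.smul g⁻¹, fun h => h.smul g⟩

theorem smul_self_of_mem {P : Sylow 3 G} {u : G} (hu : u ∈ (P : Subgroup G)) : u • P = P :=
  Sylow.smul_eq_iff_mem_normalizer.2 (le_normalizer hu)

theorem eq_one_of_smul (hG : Nat.card G = 7920) {P Q : Sylow 3 G} {u : G}
    (hu : u ∈ (P : Subgroup G)) (h : u • Q = Q) (hne : P ≠ Q) : u = 1 := by
  by_contra hu1
  have huQ : u ∈ (Q : Subgroup G) := by
    have hp : IsPGroup 3 (zpowers u) :=
      P.isPGroup'.to_le (zpowers_le.2 hu)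
    have h1 := hp.inf_normalizer_sylow Q
    exact (Subgroup.mem_inf.1 (h1.le (Subgroup.mem_inf.2
      ⟨mem_zpowers u, Sylow.smul_eq_iff_mem_normalizer.1 h⟩))).2
  exact hne (eq_of_mem hG hu huQ hu1).symm

/-- The same orbit of the Sylow subgroup `P`. -/
def SameOrb (P Q X : Sylow 3 G) : Prop := ∃ u ∈ (P : Subgroup G), u • Q = X

theorem SameOrb.refl (P Q : Sylow 3 G) : SameOrb P Q Q := ⟨1, one_mem _, one_smul _ _⟩

theorem SameOrb.symm {P Q X : Sylow 3 G} (h : SameOrb P Q X) : SameOrb P X Q := by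
  obtain ⟨u, hu, rfl⟩ := h
  exact ⟨u⁻¹, inv_mem hu, inv_smul_smul _ _⟩

theorem SameOrb.trans {P Q X Y : Sylow 3 G} (h : SameOrb P Q X) (h' : SameOrb P X Y) :
    SameOrb P Q Y := by
  obtain ⟨u, hu, rfl⟩ := h
  obtain ⟨v, hv, rfl⟩ := h'
  exact ⟨v * u, mul_mem hv hu, mul_smul _ _ _⟩

theorem SameOrb.ne {P Q X : Sylow 3 G} (h : SameOrb P Q X) (hne : P ≠ Q) : P ≠ X := by
  obtain ⟨u, hu, rfl⟩ := h
  intro e
  exact hne (MulAction.injective u ((smul_self_of_mem hu).trans e))

theorem card_orb (hG : Nat.card G = 7920) {P Q : Sylow 3 G} (hne : P ≠ Q) :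
    Nat.card {X // SameOrb P Q X} = 9 := by
  rw [← card_three hG P]
  symm
  refine Nat.card_eq_of_bijective
    (fun u : (P : Subgroup G) => (⟨(u : G) • Q, u, u.2, rfl⟩ : {X // SameOrb P Q X}))
    ⟨fun u v huv => ?_, fun ⟨X, u, hu, hX⟩ => ⟨⟨u, hu⟩, Subtype.ext hX⟩⟩
  have e : (u : G) • Q = (v : G) • Q := congrArg Subtype.val huv
  have h1 : ((v : G)⁻¹ * u) • Q = Q := by rw [mul_smul, e, inv_smul_smul]
  exact Subtype.ext (inv_mul_eq_one.1 (eq_one_of_smul hG (mul_mem (inv_mem v.2) u.2) h1 hne)).symm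

/-- A triple inverted by one involution. -/
structure Tri (s : G) (P Q R : Sylow 3 G) : Prop where
  invP : Inv s P
  invQ : Inv s Q
  invR : Inv s R
  neQ : P ≠ Q
  neR : P ≠ R
  neQR : Q ≠ R

theorem Adj.exists_tri (hG : Nat.card G = 7920) {P Q : Sylow 3 G} (h : Adj P Q) :
    ∃ s R, Tri s P Q R := by
  obtain ⟨hne, s, hP, hQ⟩ := h
  haveI := Fintype.ofFinite (Sylow 3 G)
  have h3 := card_tri hG hP.1
  rw [Nat.card_eq_fintype_card, Fintype.card_subtype] at h3
  obtain ⟨R, hR, hR'⟩ := Finset.exists_mem_notMem_of_card_lt_card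
    (show ({P, Q} : Finset (Sylow 3 G)).card < (Finset.univ.filter fun X => Inv s X).card by
      rw [h3, Finset.card_pair hne]; norm_num)
  simp only [Finset.mem_insert, Finset.mem_singleton, not_or] at hR'
  exact ⟨s, R, hP, hQ, (Finset.mem_filter.1 hR).2, hne, Ne.symm hR'.1, Ne.symm hR'.2⟩

theorem Tri.cases (hG : Nat.card G = 7920) {s : G} {P Q R X : Sylow 3 G} (h : Tri s P Q R)
    (hX : Inv s X) : X = P ∨ X = Q ∨ X = R := by
  haveI := Fintype.ofFinite (Sylow 3 G)
  have h3 := card_tri hG h.invP.1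
  rw [Nat.card_eq_fintype_card, Fintype.card_subtype] at h3
  have e : ({P, Q, R} : Finset (Sylow 3 G)) = Finset.univ.filter fun X => Inv s X := by
    refine Finset.eq_of_subset_of_card_le (fun Y hY => ?_) ?_
    · simp only [Finset.mem_insert, Finset.mem_singleton] at hY
      rcases hY with rfl | rfl | rfl
      exacts [Finset.mem_filter.2 ⟨Finset.mem_univ _, h.invP⟩, Finset.mem_filter.2 ⟨Finset.mem_univ _, h.invQ⟩,
        Finset.mem_filter.2 ⟨Finset.mem_univ _, h.invR⟩]
    · rw [h3, Finset.card_eq_three.2 ⟨P, Q, R, h.neQ, h.neR, h.neQR, rfl⟩]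
  have := e.ge (Finset.mem_filter.2 ⟨Finset.mem_univ X, hX⟩)
  simpa using this

theorem Tri.swap12 {s : G} {P Q R : Sylow 3 G} (h : Tri s P Q R) : Tri s Q P R :=
  ⟨h.invQ, h.invP, h.invR, h.neQ.symm, h.neQR, h.neR⟩

theorem Tri.swap23 {s : G} {P Q R : Sylow 3 G} (h : Tri s P Q R) : Tri s P R Q :=
  ⟨h.invP, h.invR, h.invQ, h.neR, h.neQ, h.neQR.symm⟩

theorem Tri.adj {s : G} {P Q R : Sylow 3 G} (h : Tri s P Q R) : Adj P Q :=
  ⟨h.neQ, s, h.invP, h.invQ⟩

theorem Tri.not_sameOrb (hG : Nat.card G = 7920) {s : G} {P Q R : Sylow 3 G} (h : Tri s P Q R) :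
    ¬ SameOrb P Q R := by
  rintro ⟨u, hu, he⟩
  have h1 : Inv (u * s * u⁻¹) R := he ▸ h.invQ.conj u
  have h2 : Inv (u * s * u⁻¹) P := by
    have := h.invP.conj u
    rwa [smul_self_of_mem hu] at this
  have e := Inv.unique hG h.neR h.invP h2 h.invR h1
  have hc : s * u * s⁻¹ = u := by
    calc s * u * s⁻¹ = (u * s * u⁻¹) * u * s⁻¹ := by rw [e]
      _ = u := by group
  rw [h.invP.2 u hu] at hc
  have hu1 : u = 1 := by
    by_contra hu1
    have h2 : u ^ 2 = 1 := by rw [pow_two]; nth_rewrite 1 [← hc]; exact inv_mul_cancel u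
    have := orderOf_dvd_of_pow_eq_one h2
    rw [orderOf_three hG P hu hu1] at this
    norm_num at this
  rw [hu1, one_smul] at he
  exact h.neQR he

theorem Tri.adj_iff (hG : Nat.card G = 7920) {s : G} {P Q R : Sylow 3 G} (h : Tri s P Q R)
    (X : Sylow 3 G) : Adj P X ↔ SameOrb P Q X ∨ SameOrb P R X := by
  constructor
  · rintro ⟨hne, s', hP, hX⟩
    obtain ⟨u, hu, rfl⟩ := h.invP.exists_conj hG hP
    have h' : Inv s (u⁻¹ • X) := by
      have := hX.conj u⁻¹
      rwa [show u⁻¹ * (u * s * u⁻¹) * u⁻¹⁻¹ = s by group] at this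
    rcases h.cases hG h' with e | e | e
    · exact absurd ((inv_smul_eq_iff.1 e).trans (smul_self_of_mem hu)).symm hne
    · exact Or.inl ⟨u, hu, (inv_smul_eq_iff.1 e).symm⟩
    · exact Or.inr ⟨u, hu, (inv_smul_eq_iff.1 e).symm⟩
  · rintro (⟨u, hu, rfl⟩ | ⟨u, hu, rfl⟩)
    · have := h.adj.smul u; rwa [smul_self_of_mem hu] at this
    · have := h.swap23.adj.smul u; rwa [smul_self_of_mem hu] at this

/-- An element centralising `s` and fixing two of the three fixes the third. -/
theorem Tri.smul_third (hG : Nat.card G = 7920) {s k : G} {P Q R : Sylow 3 G} (h : Tri s P Q R)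
    (hk : k * s = s * k) (hP : k • P = P) (hQ : k • Q = Q) : k • R = R := by
  have h' := h.invR.conj k
  rw [hk, mul_inv_cancel_right] at h'
  rcases h.cases hG h' with e | e | e
  · exact absurd (MulAction.injective k (hP.trans e.symm)) h.neR
  · exact absurd (MulAction.injective k (hQ.trans e.symm)) h.neQR
  · exact e

theorem Tri.exists_swap (hG : Nat.card G = 7920) {s : G} {P Q R : Sylow 3 G} (h : Tri s P Q R) :
    ∃ t, t * s = s * t ∧ t • P = P ∧ t • Q = R := by
  obtain ⟨r, hr⟩ := exists_refl hG h.invP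
  refine ⟨r, hr.2.1, hr.2.2.1, ?_⟩
  have h' := h.invQ.conj r
  rw [hr.2.1, mul_inv_cancel_right] at h'
  rcases h.cases hG h' with e | e | e
  · exact absurd (MulAction.injective r (hr.2.2.1.trans e.symm)) h.neQ
  · exfalso
    refine hr.2.2.2 (eq_of_fix_all hG h.invP hr.1 hr.2.1 fun X hX => ?_)
    rcases h.cases hG hX with rfl | rfl | rfl
    exacts [hr.2.2.1, e, h.smul_third hG hr.2.1 hr.2.2.1 e]
  · exact e

/-- The pointwise stabiliser of the triple is transitive on the nontrivial elements of `P`. -/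
theorem Tri.stab_transitive (hG : Nat.card G = 7920) {s : G} {P Q R : Sylow 3 G} (h : Tri s P Q R)
    {y y' : G} (hy : y ∈ (P : Subgroup G)) (hy1 : y ≠ 1) (hy' : y' ∈ (P : Subgroup G)) (hy1' : y' ≠ 1) :
    ∃ k, k • P = P ∧ k • Q = Q ∧ k • R = R ∧ k * y * k⁻¹ = y' := by
  haveI := Fintype.ofFinite G
  set T := centralizer ({s} : Set G) ⊓ normalizer ((P : Subgroup G) : Set G) with hT
  have hTmem : ∀ t : T, (t : G) * s = s * t ∧ (t : G) • P = P := fun t =>
    ⟨mem_centralizer_singleton_iff.1 (mem_inf.1 t.2).1,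
      Sylow.smul_eq_iff_mem_normalizer.2 (mem_inf.1 t.2).2⟩
  set K := MulAction.stabilizer T Q with hK
  have hK8 : 8 ≤ Nat.card K := by
    have hsub : MulAction.orbit T Q ⊆ {Q, R} := by
      rintro X ⟨t, rfl⟩
      have h' := h.invQ.conj (t : G)
      rw [(hTmem t).1, mul_inv_cancel_right] at h'
      rcases h.cases hG h' with e | e | e
      · exact absurd (MulAction.injective (t : G) ((hTmem t).2.trans e.symm)) h.neQ
      · exact Or.inl e
      · exact Or.inr e
    have h1 := K.card_mul_index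
    rw [hK, MulAction.index_stabilizer, card_stab hG h.invP, ← hK] at h1
    have h2 : (MulAction.orbit T Q).ncard ≤ 2 :=
      (Set.ncard_le_ncard hsub).trans (Set.ncard_pair h.neQR).le
    have hK0 : 0 < Nat.card K := Nat.card_pos
    nlinarith
  let f : K → {z : G // z ∈ (P : Subgroup G) ∧ z ≠ 1} := fun k =>
    ⟨((k : T) : G) * y * ((k : T) : G)⁻¹,
      (mem_normalizer_iff.1 (mem_inf.1 (k : T).2).2 y).1 hy, fun e => hy1 (by simpa using e)⟩
  have hf : Function.Injective f := by
    intro a b hab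
    have e : ((a : T) : G) * y * ((a : T) : G)⁻¹ = ((b : T) : G) * y * ((b : T) : G)⁻¹ :=
      congrArg Subtype.val hab
    set m : K := b⁻¹ * a with hm
    by_contra hne
    have hm1 : ((m : T) : G) ≠ 1 := fun h1 => hne (by
      have : m = 1 := Subtype.ext (Subtype.ext h1)
      exact (inv_mul_eq_one.1 this).symm)
    have hmy : ((m : T) : G) * y = y * ((m : T) : G) := by
      simp only [hm, Subgroup.coe_mul, Subgroup.coe_inv]
      calc ((b : T) : G)⁻¹ * (a : T) * y
          = ((b : T) : G)⁻¹ * (((a : T) : G) * y * ((a : T) : G)⁻¹) * (a : T) := by group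
        _ = ((b : T) : G)⁻¹ * (((b : T) : G) * y * ((b : T) : G)⁻¹) * (a : T) := by rw [e]
        _ = y * (((b : T) : G)⁻¹ * (a : T)) := by group
    obtain ⟨hms, hmP⟩ := hTmem (m : T)
    have hord := (stab_fixed_unique hG h.invP hy hy1 hms hmP hmy hms hmP hmy hm1 hm1).2
    have hmQ : ((m : T) : G) • Q = Q := m.2
    have e2 := eq_of_fix_all hG h.invP hord hms fun X hX => by
      rcases h.cases hG hX with rfl | rfl | rfl
      exacts [hmP, hmQ, h.smul_third hG hms hmP hmQ]
    rw [e2] at hmy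
    have e3 := h.invP.2 y hy
    rw [hmy, mul_inv_cancel_right] at e3
    have h2 : y ^ 2 = 1 := by rw [pow_two]; nth_rewrite 2 [e3]; exact mul_inv_cancel y
    have := orderOf_dvd_of_pow_eq_one h2
    rw [orderOf_three hG P hy hy1] at this
    norm_num at this
  have h8 : Nat.card {z : G // z ∈ (P : Subgroup G) ∧ z ≠ 1} ≤ 8 := by
    rw [Nat.card_eq_fintype_card, Fintype.card_subtype]
    have e : (Finset.univ.filter fun z : G => z ∈ (P : Subgroup G) ∧ z ≠ 1) =
        (Finset.univ.filter fun z : G => z ∈ (P : Subgroup G)).erase 1 := by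
      ext z; simp [and_comm]
    rw [e, Finset.card_erase_of_mem (Finset.mem_filter.2 ⟨Finset.mem_univ 1, one_mem _⟩),
      ← Fintype.card_subtype, ← Nat.card_eq_fintype_card, card_three hG P]
  obtain ⟨k, hk⟩ := (hf.bijective_of_nat_card_le (h8.trans hK8)).2 ⟨y', hy', hy1'⟩
  obtain ⟨hks, hkP⟩ := hTmem (k : T)
  exact ⟨((k : T) : G), hkP, k.2, h.smul_third hG hks hkP k.2, congrArg Subtype.val hk⟩

/-- The normaliser is transitive on neighbours. -/
theorem Adj.exists_map (hG : Nat.card G = 7920) {P Q Q' : Sylow 3 G} (h : Adj P Q) (h' : Adj P Q') :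
    ∃ n : G, n • P = P ∧ n • Q = Q' := by
  obtain ⟨s, R, ht⟩ := h.exists_tri hG
  rcases (ht.adj_iff hG Q').1 h' with ⟨u, hu, rfl⟩ | ⟨u, hu, rfl⟩
  · exact ⟨u, smul_self_of_mem hu, rfl⟩
  · obtain ⟨t, -, htP, htQ⟩ := ht.exists_swap hG
    exact ⟨u * t, by rw [mul_smul, htP, smul_self_of_mem hu], by rw [mul_smul, htQ]⟩

/-- An involution normalising but not inverting a subgroup fixes a nontrivial element of it. -/
theorem exists_fixed_of_not_inv (hG : Nat.card G = 7920) {r : G} {P : Sylow 3 G} (hr : orderOf r = 2)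
    (hP : r • P = P) (hn : ¬ Inv r P) : ∃ y ∈ (P : Subgroup G), y ≠ 1 ∧ r * y = y * r := by
  by_contra hc
  push Not at hc
  refine hn ⟨hr, fun q hq => ?_⟩
  have hq' : r * q * r⁻¹ ∈ (P : Subgroup G) :=
    (mem_normalizer_iff.1 (Sylow.smul_eq_iff_mem_normalizer.1 hP) q).1 hq
  by_contra hne
  refine hc (q * (r * q * r⁻¹)) (mul_mem hq hq') (fun e => hne ?_) ?_
  · exact (inv_eq_of_mul_eq_one_right e).symm
  · have hrr : r * r = 1 := by rw [← pow_two, ← hr, pow_orderOf_eq_one]
    calc r * (q * (r * q * r⁻¹)) = (r * q * r⁻¹) * ((r * r) * q * r⁻¹) := by group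
      _ = (r * q * r⁻¹) * q * r⁻¹ := by rw [hrr, one_mul]; group
      _ = q * (r * q * r⁻¹) * r⁻¹ := by rw [mul_comm_mem hG P hq' hq]
      _ = q * (r * q * r⁻¹) * r := by rw [inv_mul_self hr]

theorem nbrs_card (hG : Nat.card G = 7920) (P : Sylow 3 G) :
    Nat.card {X // Adj P X} = 18 := by
  haveI := Fintype.ofFinite (Sylow 3 G)
  obtain ⟨s, hs⟩ := exists_inv hG P
  have h3 := card_tri hG hs.1
  obtain ⟨Q, hQ, hQP⟩ : ∃ Q, Inv s Q ∧ Q ≠ P := by
    by_contra hc
    push Not at hc
    rw [Nat.card_eq_fintype_card] at h3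
    have : Fintype.card {X : Sylow 3 G // Inv s X} ≤ 1 :=
      Fintype.card_le_one_iff.2 fun a b => Subtype.ext ((hc a.1 a.2).trans (hc b.1 b.2).symm)
    omega
  obtain ⟨s', R, ht⟩ := Adj.exists_tri hG (⟨hQP.symm, s, hs, hQ⟩ : Adj P Q)
  rw [Nat.card_eq_fintype_card, Fintype.card_subtype,
    show (Finset.univ.filter fun X => Adj P X) =
      (Finset.univ.filter fun X => SameOrb P Q X) ∪ (Finset.univ.filter fun X => SameOrb P R X) by
      rw [← Finset.filter_or]; exact Finset.filter_congr fun X _ => ht.adj_iff hG X,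
    Finset.card_union_of_disjoint, ← Fintype.card_subtype, ← Fintype.card_subtype,
    ← Nat.card_eq_fintype_card, ← Nat.card_eq_fintype_card, card_orb hG ht.neQ, card_orb hG ht.neR]
  rw [Finset.disjoint_filter]
  intro X _ h1 h2
  exact ht.not_sameOrb hG (h1.trans h2.symm)

theorem exists_adj (hG : Nat.card G = 7920) (P : Sylow 3 G) : ∃ Q, Adj P Q := by
  obtain ⟨⟨Q, hQ⟩⟩ : Nonempty {X // Adj P X} := by
    by_contra hc
    rw [not_nonempty_iff] at hc
    have := nbrs_card hG P
    rw [Nat.card_of_isEmpty] at this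
    omega
  exact ⟨Q, hQ⟩

/-- The normaliser is transitive on the other subgroups that are not adjacent. -/
theorem exists_map_of_not_adj (hG : Nat.card G = 7920) {P Z Z' : Sylow 3 G} (hZ : P ≠ Z)
    (hZa : ¬ Adj P Z) (hZ' : P ≠ Z') (hZa' : ¬ Adj P Z') : ∃ n : G, n • P = P ∧ n • Z = Z' := by
  haveI := Fintype.ofFinite G
  haveI := Fintype.ofFinite (Sylow 3 G)
  obtain ⟨s, hs⟩ := exists_inv hG P
  obtain ⟨r, hr⟩ := exists_refl hG hs
  obtain ⟨g, hg⟩ := isConj_iff.1 (invol_isConj hG hr.1 hs.1)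
  set R0 := g • P with hR0
  have hsR0 : s • R0 = R0 := by
    rw [hR0, ← hg, mul_smul, mul_smul, inv_smul_smul, hr.2.2.1]
  have hnR0 : ¬ Inv s R0 := by
    intro h
    have h' := h.conj g⁻¹
    rw [hR0, inv_smul_smul, ← hg, show g⁻¹ * (g * r * g⁻¹) * g⁻¹⁻¹ = r by group] at h'
    exact hr.2.2.2 (hs.eq_of_commute hG h' hr.2.1.symm)
  set T := centralizer ({s} : Set G) ⊓ normalizer ((P : Subgroup G) : Set G) with hT
  have hTmem : ∀ t : T, (t : G) * s = s * t ∧ (t : G) • P = P := fun t =>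
    ⟨mem_centralizer_singleton_iff.1 (mem_inf.1 t.2).1,
      Sylow.smul_eq_iff_mem_normalizer.2 (mem_inf.1 t.2).2⟩
  set W := MulAction.orbit T R0 with hW
  -- the orbit has at least four points
  obtain ⟨y, hy, hy1, hsy⟩ := exists_fixed_of_not_inv hG hs.1 hsR0 hnR0
  have hW4 : 4 ≤ Nat.card W := by
    have h1 := (MulAction.stabilizer T R0).card_mul_index
    rw [MulAction.index_stabilizer, card_stab hG hs, ← Nat.card_coe_set_eq] at h1
    have hst : Nat.card (MulAction.stabilizer T R0) ≤ 4 := by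
      set D := (MulAction.stabilizer T R0).map T.subtype with hD
      rw [← card_map_of_injective (f := T.subtype) T.subtype_injective, ← hD]
      -- two choices for the image of y
      have hDmem : ∀ d ∈ D, d * s = s * d ∧ d • P = P ∧ d • R0 = R0 := by
        rintro _ ⟨t, ht, rfl⟩
        exact ⟨(hTmem t).1, (hTmem t).2, ht⟩
      set E := D ⊓ centralizer ({y} : Set G) with hE
      have hE2 : Nat.card E ≤ 2 := by
        have hd1 : Nat.card E ∣ 16 := card_stab hG hs ▸
          card_dvd_of_le (inf_le_left.trans (map_subtype_le _) : E ≤ T)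
        have hd2 : Nat.card E ∣ 18 := card_centralizer_mem hG R0 hy hy1 ▸
          card_dvd_of_le (inf_le_right : E ≤ centralizer ({y} : Set G))
        exact Nat.le_of_dvd two_pos ((Nat.dvd_gcd hd1 hd2).trans (by norm_num))
      -- the fixed part of R0
      let Fx : Subgroup G := (R0 : Subgroup G) ⊓ centralizer ({s} : Set G)
      have hFx : Nat.card Fx ≤ 3 := by
        obtain ⟨k, hk2, hk⟩ := (Nat.dvd_prime_pow Nat.prime_three).1
          (show Nat.card Fx ∣ 3 ^ 2 by
            have h := card_dvd_of_le (inf_le_left : Fx ≤ (R0 : Subgroup G))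
            rwa [card_three hG R0] at h)
        interval_cases k
        · rw [hk]; norm_num
        · rw [hk]; norm_num
        · exfalso
          have e : Fx = (R0 : Subgroup G) := eq_of_le_of_card_ge inf_le_left
            (by rw [hk, card_three hG R0]; norm_num)
          have hsC : s ∈ centralizer ((R0 : Subgroup G) : Set G) := mem_centralizer_iff.2 fun q hq =>
            mem_centralizer_singleton_iff.1 (mem_inf.1 (e.ge hq)).2
          rw [centralizer_eq hG R0] at hsC
          have := orderOf_dvd_natCard (⟨s, hsC⟩ : (R0 : Subgroup G))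
          rw [orderOf_mk, hs.1, card_three hG R0] at this
          norm_num at this
      let ψ : D → {z : Fx // z ≠ 1} := fun d =>
        ⟨⟨(d : G) * y * (d : G)⁻¹, mem_inf.2
          ⟨(mem_normalizer_iff.1 (Sylow.smul_eq_iff_mem_normalizer.1 (hDmem d d.2).2.2) y).1 hy,
            mem_centralizer_singleton_iff.2
              (((show Commute (d : G) s from (hDmem d d.2).1).mul_left (show Commute y s from hsy.symm)).mul_left
                (show Commute (d : G) s from (hDmem d d.2).1).inv_left).eq⟩⟩,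
          fun e => hy1 (by have := congrArg Subtype.val e; simpa using this)⟩
      haveI := Fintype.ofFinite D
      haveI := Fintype.ofFinite E
      haveI := Fintype.ofFinite Fx
      have hfib : ∀ z ∈ (Finset.univ : Finset {z : Fx // z ≠ 1}),
          (Finset.univ.filter fun d : D => ψ d = z).card ≤ 2 := by
        intro z _
        rcases Finset.eq_empty_or_nonempty (Finset.univ.filter fun d : D => ψ d = z) with h0 | ⟨d0, hd0⟩
        · rw [h0]; simp
        refine le_trans ?_ hE2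
        rw [Nat.card_eq_fintype_card]
        refine (Finset.card_le_card_of_injOn (s := Finset.univ.filter fun d : D => ψ d = z) (t := (Finset.univ : Finset E))
          (fun d => if hd : (d0 : G)⁻¹ * d ∈ E then (⟨_, hd⟩ : E) else 1)
          (fun _ _ => Finset.mem_univ _) ?_).trans (le_of_eq Finset.card_univ)
        intro a ha b hb hab
        have key : ∀ d : D, d ∈ (Finset.univ.filter fun d : D => ψ d = z) → (d0 : G)⁻¹ * d ∈ E := by
          intro d hd
          refine mem_inf.2 ⟨mul_mem (inv_mem d0.2) d.2, mem_centralizer_singleton_iff.2 ?_⟩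
          have e : ((ψ d : Fx) : G) = ((ψ d0 : Fx) : G) := by
            rw [(Finset.mem_filter.1 hd).2, (Finset.mem_filter.1 hd0).2]
          change (d : G) * y * (d : G)⁻¹ = (d0 : G) * y * (d0 : G)⁻¹ at e
          calc (d0 : G)⁻¹ * d * y = (d0 : G)⁻¹ * ((d : G) * y * (d : G)⁻¹) * d := by group
            _ = (d0 : G)⁻¹ * ((d0 : G) * y * (d0 : G)⁻¹) * d := by rw [e]
            _ = y * ((d0 : G)⁻¹ * d) := by group
        simp only [dif_pos (key a ha), dif_pos (key b hb)] at hab
        exact Subtype.ext (mul_left_cancel (congrArg Subtype.val hab))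
      have h := Finset.card_le_mul_card_image (f := ψ) (Finset.univ : Finset D) 2
        (fun z hz => hfib z (Finset.mem_univ z))
      have h2 : (Finset.univ.image ψ).card ≤ 2 := by
        refine (Finset.card_le_univ _).trans ?_
        rw [Fintype.card_subtype_compl, Fintype.card_subtype_eq, ← Nat.card_eq_fintype_card]
        omega
      rw [Finset.card_univ, ← Nat.card_eq_fintype_card] at h
      omega
    nlinarith
  have hWprop : ∀ X ∈ W, s • X = X ∧ ¬ Inv s X ∧ P ≠ X ∧ ¬ Adj P X := by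
    rintro X ⟨t, rfl⟩
    obtain ⟨hts, htP⟩ := hTmem t
    have h1 : s • ((t : G) • R0) = (t : G) • R0 := by rw [← mul_smul, ← hts, mul_smul, hsR0]
    have h2 : ¬ Inv s ((t : G) • R0) := by
      intro h
      have h' := h.conj (t : G)⁻¹
      rw [inv_smul_smul, show (t : G)⁻¹ * s * (t : G)⁻¹⁻¹ = s by
        rw [inv_inv, mul_assoc, ← hts, inv_mul_cancel_left]] at h'
      exact hnR0 h'
    refine ⟨h1, h2, fun (e : P = (t : G) • R0) => h2 (e ▸ hs), ?_⟩
    rintro ⟨hne, s', hP', hX'⟩
    have hP2 : Inv (s * s' * s⁻¹) P := by have := hP'.conj s; rwa [hs.smul_self] at this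
    have hX2 : Inv (s * s' * s⁻¹) ((t : G) • R0) := by
      have := hX'.conj s
      change Inv (s * s' * s⁻¹) (s • ((t : G) • R0)) at this
      rwa [h1] at this
    have e := Inv.unique hG hne hP' hP2 hX' hX2
    have hc : s * s' = s' * s := by rwa [mul_inv_eq_iff_eq_mul] at e
    exact h2 (hs.eq_of_commute hG hP' hc ▸ hX')
  let j : ↥(P : Subgroup G) × ↥W → {X // P ≠ X ∧ ¬ Adj P X} := fun uw =>
    ⟨(uw.1 : G) • uw.2.1, fun e => (hWprop _ uw.2.2).2.2.1
        (MulAction.injective (uw.1 : G) ((smul_self_of_mem uw.1.2).trans e)),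
      fun h => (hWprop _ uw.2.2).2.2.2 ((adj_smul_iff (uw.1 : G)).1 (by rwa [smul_self_of_mem uw.1.2]))⟩
  have hj : Function.Injective j := by
    rintro ⟨u, a⟩ ⟨v, b⟩ he
    have e : (u : G) • a.1 = (v : G) • b.1 := congrArg Subtype.val he
    set w := (v : G)⁻¹ * u with hw
    have hwP : w ∈ (P : Subgroup G) := mul_mem (inv_mem v.2) u.2
    have hwab : w • a.1 = b.1 := by rw [hw, mul_smul, e, inv_smul_smul]
    have hw2 : w⁻¹ • a.1 = b.1 := by
      rw [← hs.2 w hwP, mul_smul, mul_smul, inv_smul_eq_iff.2 ((hWprop _ a.2).1).symm, hwab,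
        (hWprop _ b.2).1]
    have hww : (w * w) • a.1 = a.1 := by
      rw [mul_smul, hwab, ← hw2, smul_inv_smul]
    have hw1 : w * w = 1 := eq_one_of_smul hG (mul_mem hwP hwP) hww (hWprop _ a.2).2.2.1
    have hw0 : w = 1 := by
      by_contra hne
      have := orderOf_dvd_of_pow_eq_one (show w ^ 2 = 1 by rw [pow_two]; exact hw1)
      rw [orderOf_three hG P hwP hne] at this
      norm_num at this
    rw [hw0, one_smul] at hwab
    have huv : u = v := Subtype.ext (inv_mul_eq_one.1 hw0).symm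
    rw [huv, Subtype.ext hwab]
  have hcard : Nat.card {X // P ≠ X ∧ ¬ Adj P X} = 36 := by
    have h18 := nbrs_card hG P
    have h55 := card_sylow_three (G := G) hG
    rw [Nat.card_eq_fintype_card] at h55
    rw [Nat.card_eq_fintype_card, Fintype.card_subtype] at h18 ⊢
    have e : (Finset.univ.filter fun X => P ≠ X ∧ ¬ Adj P X) =
        ((Finset.univ.filter fun X => Adj P X)ᶜ).erase P := by
      ext X; simp [and_comm, eq_comm]
    rw [e, Finset.card_erase_of_mem (Finset.mem_compl.2 fun hh => (Finset.mem_filter.1 hh).2.1 rfl), Finset.card_compl, h18, h55]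
  have hsurj := (hj.bijective_of_nat_card_le (by
    rw [hcard, Nat.card_prod, card_three hG P]; omega)).2
  have key : ∀ X, P ≠ X → ¬ Adj P X → ∃ n : G, n • P = P ∧ n • R0 = X := by
    intro X h1 h2
    obtain ⟨⟨u, ⟨_, t, rfl⟩⟩, he⟩ := hsurj ⟨X, h1, h2⟩
    refine ⟨(u : G) * (t : G), ?_, ?_⟩
    · rw [mul_smul, (hTmem t).2, smul_self_of_mem u.2]
    · rw [mul_smul]; exact congrArg Subtype.val he
  obtain ⟨a, haP, rfl⟩ := key Z hZ hZa
  obtain ⟨b, hbP, rfl⟩ := key Z' hZ' hZa'
  refine ⟨b * a⁻¹, ?_, by rw [mul_smul, inv_smul_smul]⟩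
  rw [mul_smul, inv_smul_eq_iff.2 haP.symm, hbP]

end Cfsg.Agent.Lib.Points11
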