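import Cfsg.Agent.Lib.Char.Order7920Three

/-!
# The involutions of a simple group of order 7920
-/

set_option autoImplicit false
set_option linter.unusedSectionVars false
set_option linter.style.haveILetI false

namespace Cfsg.Agent.Lib.Points11

open Cfsg Cfsg.Agent.Lib Cfsg.Agent.Lib.Char Cfsg.Agent.Lib.CharTools Cfsg.Agent.Lib.Char.O7920
open Subgroup
open scoped ComplexConjugate

universe u

variable {G : Type u} [Group G] [Finite G] [IsSimpleGroup G]

/-- There is one class of involutions. -/
theorem invol_isConj (hG : Nat.card G = 7920) {t s : G} (ht : orderOf t = 2) (hs : orderOf s = 2) :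
    IsConj t s := by
  classical
  haveI := Fintype.ofFinite G
  obtain ⟨f, x, y, hbij, hdeg, h0, h6, hxo, hxinv, hx, hx5, hyo, hy, -⟩ := exists_table hG
  obtain ⟨-, u1, u2, u3, hu, hut⟩ := involution_column hG hbij hdeg h0 h6 hxo hxinv hx hx5 hyo hy ht
  obtain ⟨-, v1, v2, v3, hv, hvs⟩ := involution_column hG hbij hdeg h0 h6 hxo hxinv hx hx5 hyo hy hs
  by_contra hne
  have h := sum_orth hne
  rw [sum_ten hbij] at h
  simp only [hut, hvs, map_intCast] at h
  have h' : ((1 + (u1 * v1 + u2 * v2 + u3 * v3) + 9 + 9 + 16 + 1 : ℤ) : ℂ) = 0 := by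
    simp [Matrix.cons_val] at h
    push_cast
    linear_combination h
  have h'' : 1 + (u1 * v1 + u2 * v2 + u3 * v3) + 9 + 9 + 16 + 1 = 0 := by exact_mod_cast h'
  rcases hu with ⟨rfl, rfl, rfl⟩ | ⟨rfl, rfl, rfl⟩ | ⟨rfl, rfl, rfl⟩ <;>
    rcases hv with ⟨rfl, rfl, rfl⟩ | ⟨rfl, rfl, rfl⟩ | ⟨rfl, rfl, rfl⟩ <;> omega

theorem orderOf_of_isConj {s t : G} (h : IsConj s t) : orderOf s = orderOf t := by
  obtain ⟨g, hg⟩ := isConj_iff.1 h
  rw [← hg, show g * s * g⁻¹ = MulAut.conj g s from rfl, (MulAut.conj g).orderOf_eq]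

theorem isConj_iff_invol (hG : Nat.card G = 7920) {t s : G} (ht : orderOf t = 2) :
    IsConj s t ↔ orderOf s = 2 :=
  ⟨fun h => (orderOf_of_isConj h).trans ht, fun h => invol_isConj hG h ht⟩

/-- There are one hundred and sixty-five involutions. -/
theorem card_invol (hG : Nat.card G = 7920) : Nat.card {t : G // orderOf t = 2} = 165 := by
  haveI := Fintype.ofFinite G
  obtain ⟨t, ht⟩ := exists_prime_orderOf_dvd_card' (G := G) 2 (by rw [hG]; norm_num)
  have hC := card_centralizer_involution hG ht
  have h1 := (centralizer ({t} : Set G)).card_mul_index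
  classical
  rw [hC, hG, ← card_conjClass_eq_index t] at h1
  classical
  rw [Nat.card_eq_fintype_card, Fintype.card_subtype]
  have e : (Finset.univ.filter fun s : G => orderOf s = 2) = Finset.univ.filter fun s : G => IsConj s t := by
    ext s
    simp only [Finset.mem_filter, Finset.mem_univ, true_and]
    exact (isConj_iff_invol hG ht).symm
  rw [e]
  refine Eq.trans ?_ (show (165 : ℕ) = 165 from rfl)
  omega

/-- An involution commutes with twelve further involutions. -/
theorem card_commuting (hG : Nat.card G = 7920) {t : G} (ht : orderOf t = 2) :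
    Nat.card {s : G // orderOf s = 2 ∧ s * t = t * s ∧ s ≠ t} = 12 := by
  classical
  haveI := Fintype.ofFinite G
  obtain ⟨f, x, y, hbij, hdeg, h0, h6, hxo, hxinv, hx, hx5, hyo, hy, -⟩ := exists_table hG
  obtain ⟨-, u1, u2, u3, hu, hut⟩ := involution_column hG hbij hdeg h0 h6 hxo hxinv hx hx5 hyo hy ht
  -- the class sum
  have hd1 : ∀ i, (f i : G → ℂ) 1 = ((degList i : ℤ) : ℂ) := fun i => by
    rw [apply_one_eq_charDegree (isCharacter_of_isIrr (f i).2), hdeg, Int.cast_natCast]
  have hS : ∑ χ : IrrCharacter G,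
      (χ : G → ℂ) t * (χ : G → ℂ) t * conj ((χ : G → ℂ) t) / (χ : G → ℂ) 1 = (192 : ℂ) / 55 := by
    rw [sum_ten hbij]
    simp only [hut, hd1, map_intCast]
    rcases hu with ⟨rfl, rfl, rfl⟩ | ⟨rfl, rfl, rfl⟩ | ⟨rfl, rfl, rfl⟩ <;>
      simp [degList, Matrix.cons_val] <;> norm_num
  have hidx : ((centralizer ({t} : Set G)).index : ℂ) = 165 := by
    have h1 := (centralizer ({t} : Set G)).card_mul_index
    rw [card_centralizer_involution hG ht, hG] at h1
    have : (centralizer ({t} : Set G)).index = 165 := by omega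
    rw [this]; norm_num
  -- the number of pairs
  let n : G → ℕ := fun u => (Finset.univ.filter fun v : G => orderOf v = 2 ∧ orderOf (u * v) = 2).card
  have hclass : ∀ v : G, classInd t v = if orderOf v = 2 then 1 else 0 := by
    intro v
    by_cases h : orderOf v = 2
    · rw [classInd_of ((isConj_iff_invol hG ht).2 h), if_pos h]
    · rw [classInd_of_not fun hc => h ((isConj_iff_invol hG ht).1 hc), if_neg h]
  have hpairs : ((centralizer ({t} : Set G)).index : ℂ) * ((centralizer ({t} : Set G)).index : ℂ) *
      ((192 : ℂ) / 55) = ∑ u : G, (if orderOf u = 2 then ((n u : ℕ) : ℂ) * 48 else 0) := by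
    rw [← hS, Finset.mul_sum]
    calc ∑ χ : IrrCharacter G, ((centralizer ({t} : Set G)).index : ℂ) *
            ((centralizer ({t} : Set G)).index : ℂ) *
            ((χ : G → ℂ) t * (χ : G → ℂ) t * conj ((χ : G → ℂ) t) / (χ : G → ℂ) 1)
        = ∑ χ : IrrCharacter G,
          (∑ u : G, ∑ v : G, classInd t u * classInd t v * (χ : G → ℂ) (u * v)) *
            conj ((χ : G → ℂ) t) := by
          refine Finset.sum_congr rfl fun χ _ => ?_
          rw [sum_classes_mul χ.2]; ring
      _ = ∑ u : G, ∑ v : G, classInd t u * classInd t v *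
            ∑ χ : IrrCharacter G, (χ : G → ℂ) (u * v) * conj ((χ : G → ℂ) t) := by
          simp only [Finset.sum_mul, Finset.mul_sum]
          rw [Finset.sum_comm]
          refine Finset.sum_congr rfl fun u _ => ?_
          rw [Finset.sum_comm]
          exact Finset.sum_congr rfl fun v _ => Finset.sum_congr rfl fun χ _ => by ring
      _ = _ := by
          refine Finset.sum_congr rfl fun u _ => ?_
          simp only [hclass, n]
          by_cases hu2 : orderOf u = 2
          · simp only [if_pos hu2, one_mul]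
            rw [Finset.card_filter, Nat.cast_sum, Finset.sum_mul]
            refine Finset.sum_congr rfl fun v _ => ?_
            by_cases hv : orderOf v = 2
            · rw [if_pos hv, one_mul]
              by_cases hw : orderOf (u * v) = 2
              · rw [if_pos ⟨hv, hw⟩]
                obtain ⟨g, hg⟩ := isConj_iff.1 (invol_isConj hG hw ht)
                have e : ∀ χ : IrrCharacter G, (χ : G → ℂ) (u * v) = (χ : G → ℂ) t := fun χ => by
                  rw [← hg, isClassFunction_of_isIrr χ.2 (u * v) g]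
                simp only [e]
                rw [sum_norm, card_centralizer_involution hG ht]
                push_cast; ring
              · rw [if_neg fun h => hw h.2,
                  sum_orth fun hc => hw ((isConj_iff_invol hG ht).1 hc)]
                simp
            · rw [if_neg hv, if_neg fun h => hv h.1]; simp
          · simp [if_neg hu2]
  -- equal counts at all involutions
  have hn : ∀ u, orderOf u = 2 → n u = n t := by
    intro u hu2
    obtain ⟨g, hg⟩ := isConj_iff.1 (invol_isConj hG ht hu2)
    have horder : ∀ a : G, orderOf (g * a * g⁻¹) = orderOf a := fun a => by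
      rw [show g * a * g⁻¹ = MulAut.conj g a from rfl, (MulAut.conj g).orderOf_eq]
    symm
    refine Finset.card_bij' (fun v _ => g * v * g⁻¹) (fun v _ => g⁻¹ * v * g) ?_ ?_
      (fun v _ => by group) (fun v _ => by group)
    · intro v hv
      simp only [Finset.mem_filter, Finset.mem_univ, true_and] at hv ⊢
      refine ⟨(horder v).trans hv.1, ?_⟩
      rw [← hg, show g * t * g⁻¹ * (g * v * g⁻¹) = g * (t * v) * g⁻¹ by group, horder, hv.2]
    · intro v hv
      simp only [Finset.mem_filter, Finset.mem_univ, true_and] at hv ⊢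
      refine ⟨?_, ?_⟩
      · rw [← horder, show g * (g⁻¹ * v * g) * g⁻¹ = v by group, hv.1]
      · rw [← horder, show g * (t * (g⁻¹ * v * g)) * g⁻¹ = g * t * g⁻¹ * v by group, hg, hv.2]
  have htotal : ∑ u : G, (if orderOf u = 2 then ((n u : ℕ) : ℂ) * 48 else 0) =
      (165 : ℂ) * ((n t : ℕ) : ℂ) * 48 := by
    rw [← Finset.sum_filter, Finset.sum_congr rfl fun u hu2 => by rw [hn u (Finset.mem_filter.1 hu2).2],
      Finset.sum_const, nsmul_eq_mul]
    have : (Finset.univ.filter fun u : G => orderOf u = 2).card = 165 := by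
      rw [← Fintype.card_subtype, ← Nat.card_eq_fintype_card, card_invol hG]
    rw [this]; push_cast; ring
  rw [htotal, hidx] at hpairs
  have hnt : n t = 12 := by
    have : ((n t : ℕ) : ℂ) = ((12 : ℕ) : ℂ) := by
      push_cast
      linear_combination (-(1 : ℂ) / (165 * 48)) * hpairs
    exact_mod_cast this
  rw [← hnt, Nat.card_eq_fintype_card, Fintype.card_subtype]
  have htt : t * t = 1 := by rw [← pow_two, ← ht, pow_orderOf_eq_one]
  have ht1 : t⁻¹ = t := inv_eq_of_mul_eq_one_right htt
  refine Finset.card_bij' (fun s _ => t * s) (fun v _ => t * v) ?_ ?_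
    (fun s _ => by rw [← mul_assoc, htt, one_mul]) (fun s _ => by rw [← mul_assoc, htt, one_mul])
  · intro s hs
    simp only [Finset.mem_filter, Finset.mem_univ, true_and] at hs ⊢
    obtain ⟨hs2, hst, hne⟩ := hs
    refine ⟨orderOf_eq_prime ?_ ?_, by rw [← mul_assoc, htt, one_mul]; exact hs2⟩
    · have hss : s * s = 1 := by rw [← pow_two, ← hs2, pow_orderOf_eq_one]
      rw [pow_two, mul_assoc t, ← mul_assoc s, hst, mul_assoc t s, hss, mul_one, htt]
    · intro h
      exact hne (by rw [← ht1]; exact (inv_eq_of_mul_eq_one_right h).symm)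
  · intro v hv
    simp only [Finset.mem_filter, Finset.mem_univ, true_and] at hv ⊢
    obtain ⟨hv2, hw⟩ := hv
    have hvv : v⁻¹ = v := inv_eq_of_mul_eq_one_right (by rw [← pow_two, ← hv2, pow_orderOf_eq_one])
    have hww : (t * v)⁻¹ = t * v := inv_eq_of_mul_eq_one_right (by rw [← pow_two, ← hw, pow_orderOf_eq_one])
    rw [mul_inv_rev, hvv, ht1] at hww
    refine ⟨hw, by rw [mul_assoc, hww], fun h => ?_⟩
    rw [mul_eq_left] at h
    rw [h, orderOf_one] at hv2
    omega

end Cfsg.Agent.Lib.Points11
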