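import Cfsg.Agent.Lib.Points11.Involutions

/-!
# The normaliser of a Sylow subgroup for three
-/

set_option autoImplicit false
set_option linter.unusedSectionVars false
set_option linter.style.haveILetI false

namespace Cfsg.Agent.Lib.Points11

open Cfsg Cfsg.Agent.Lib Cfsg.Agent.Lib.Char.O7920 Subgroup

universe u

variable {G : Type u} [Group G] [Finite G] [IsSimpleGroup G] [Fact (Nat.Prime 3)]

/-- `s` is an involution inverting the Sylow subgroup `P`. -/
def Inv (s : G) (P : Sylow 3 G) : Prop :=
  orderOf s = 2 ∧ ∀ q ∈ (P : Subgroup G), s * q * s⁻¹ = q⁻¹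

theorem card_three (hG : Nat.card G = 7920) (P : Sylow 3 G) : Nat.card (P : Subgroup G) = 9 :=
  (SmallSimple.card_sylow_subgroup P (k := 2) (m := 880) (by rw [hG]; norm_num) (by norm_num)).trans
    (by norm_num)

theorem mul_comm_mem (hG : Nat.card G = 7920) (P : Sylow 3 G) {a b : G}
    (ha : a ∈ (P : Subgroup G)) (hb : b ∈ (P : Subgroup G)) : a * b = b * a := by
  have hmc : IsMulCommutative (P : Subgroup G) :=
    IsPGroup.isMulCommutative_of_card_eq_prime_sq (p := 3) (by rw [card_three hG P]; norm_num)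
  exact congrArg Subtype.val (hmc.is_comm.comm (⟨a, ha⟩ : (P : Subgroup G)) ⟨b, hb⟩)

theorem card_normalizer (hG : Nat.card G = 7920) (P : Sylow 3 G) :
    Nat.card (normalizer ((P : Subgroup G) : Set G)) = 144 :=
  card_normalizer_three hG P

theorem card_sylow_three (hG : Nat.card G = 7920) : Nat.card (Sylow 3 G) = 55 := by
  obtain ⟨P⟩ : Nonempty (Sylow 3 G) := inferInstance
  have h := card_normalizer_eq hG P
  rw [card_normalizer hG P] at h
  omega

theorem centralizer_eq (hG : Nat.card G = 7920) (P : Sylow 3 G) :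
    centralizer ((P : Subgroup G) : Set G) = P := by
  have hP := card_three hG P
  have hPC : (P : Subgroup G) ≤ centralizer ((P : Subgroup G) : Set G) := fun a ha =>
    mem_centralizer_iff.2 fun b hb => mul_comm_mem hG P hb ha
  refine (eq_of_le_of_card_ge hPC ?_).symm
  by_contra hlt
  obtain ⟨r, hr⟩ := card_dvd_of_le hPC
  have hd := card_dvd_of_le (centralizer_le_normalizer ((P : Subgroup G) : Set G))
  rw [card_normalizer hG P, hr, hP, show 144 = 9 * 16 by norm_num] at hd
  have hr16 : r ∣ 2 ^ 4 := Nat.dvd_of_mul_dvd_mul_left (show 0 < 9 by norm_num) hd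
  obtain ⟨j, -, hj⟩ := (Nat.dvd_prime_pow Nat.prime_two).1 hr16
  have hj0 : j ≠ 0 := by
    rintro rfl
    rw [hj, pow_zero, mul_one] at hr
    omega
  obtain ⟨⟨t, ht⟩, hto⟩ := exists_prime_orderOf_dvd_card' (G := centralizer ((P : Subgroup G) : Set G)) 2
    (by rw [hr, hj]; exact dvd_mul_of_dvd_right (dvd_pow_self 2 hj0) _)
  rw [Subgroup.orderOf_mk] at hto
  have hle : (P : Subgroup G) ≤ centralizer ({t} : Set G) := fun a ha =>
    mem_centralizer_singleton_iff.2 (mem_centralizer_iff.1 ht a ha)
  have := card_dvd_of_le hle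
  rw [hP, card_centralizer_involution hG hto] at this
  norm_num at this

theorem hom_ker (hG : Nat.card G = 7920) (P : Sylow 3 G) :
    (P : Subgroup G).normalizerMonoidHom.ker =
      (P : Subgroup G).subgroupOf (normalizer ((P : Subgroup G) : Set G)) := by
  rw [Subgroup.normalizerMonoidHom_ker, centralizer_eq hG P]

theorem card_hom_range (hG : Nat.card G = 7920) (P : Sylow 3 G) :
    Nat.card (P : Subgroup G).normalizerMonoidHom.range = 16 := by
  have h := (P : Subgroup G).normalizerMonoidHom.ker.card_mul_index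
  rw [index_ker, hom_ker hG P, Nat.card_congr (subgroupOfEquivOfLe le_normalizer).toEquiv,
    card_three hG P, card_normalizer hG P] at h
  omega

theorem orderOf_three (hG : Nat.card G = 7920) (P : Sylow 3 G) {y : G} (hy : y ∈ (P : Subgroup G))
    (hy1 : y ≠ 1) : orderOf y = 3 := by
  have hP := card_three hG P
  obtain ⟨k, hk2, hk⟩ := (Nat.dvd_prime_pow Nat.prime_three).1
    (show orderOf y ∣ 3 ^ 2 by
      have h := orderOf_dvd_natCard (⟨y, hy⟩ : (P : Subgroup G))
      rwa [orderOf_mk, hP] at h)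
  interval_cases k
  · exact absurd (orderOf_eq_one_iff.1 (hk.trans (pow_zero 3))) hy1
  · simpa using hk
  · exfalso
    haveI : IsCyclic (P : Subgroup G) := isCyclic_of_orderOf_eq_card (⟨y, hy⟩ : (P : Subgroup G))
      (by rw [orderOf_mk, hk, hP]; norm_num)
    have hc6 : Nat.card (MulAut (P : Subgroup G)) = 6 := by
      rw [IsCyclic.card_mulAut, hP]; decide
    have h := card_subgroup_dvd_card (P : Subgroup G).normalizerMonoidHom.range
    rw [hc6, card_hom_range hG P] at h
    norm_num at h

/-- A Sylow subgroup for three is inverted by an involution. -/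
theorem exists_inv (hG : Nat.card G = 7920) (P : Sylow 3 G) : ∃ s, Inv s P := by
  classical
  have hP := card_three hG P
  set φ := (P : Subgroup G).normalizerMonoidHom with hφ
  have happ : ∀ (n : normalizer ((P : Subgroup G) : Set G)) (q : (P : Subgroup G)),
      ((φ n q : (P : Subgroup G)) : G) = (n : G) * q * (n : G)⁻¹ := fun _ _ => rfl
  have hA := card_hom_range hG P
  haveI : Fact (Nat.Prime 2) := ⟨Nat.prime_two⟩
  haveI : Nontrivial φ.range := by rw [← Finite.one_lt_card_iff_nontrivial, hA]; norm_num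
  have hpg : IsPGroup 2 φ.range := IsPGroup.of_card (n := 4) (by rw [hA]; norm_num)
  haveI := hpg.center_nontrivial
  obtain ⟨j, hj⟩ := (hpg.to_subgroup (center φ.range)).exists_card_eq
  have hj0 : j ≠ 0 := by
    rintro rfl
    have h := Finite.one_lt_card (α := center φ.range)
    rw [hj, pow_zero] at h
    exact lt_irrefl 1 h
  obtain ⟨⟨z, hzc⟩, hz⟩ := exists_prime_orderOf_dvd_card' (G := center φ.range) 2
    (by rw [hj]; exact dvd_pow_self 2 hj0)
  rw [orderOf_mk] at hz
  set σ : MulAut (P : Subgroup G) := (z : MulAut (P : Subgroup G)) with hσ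
  have hσ1 : σ ≠ 1 := fun h => by
    rw [show z = 1 from Subtype.ext h, orderOf_one] at hz; omega
  have hσ2 : ∀ q, σ (σ q) = q := fun q => by
    have h : z * z = 1 := by rw [← pow_two, ← hz, pow_orderOf_eq_one]
    exact congrArg (fun a : φ.range => (a : MulAut (P : Subgroup G)) q) h
  have hcomm : ∀ a : φ.range, ∀ q, (a : MulAut (P : Subgroup G)) (σ q) = σ ((a : MulAut (P : Subgroup G)) q) :=
    fun a q => congrArg (fun a : φ.range => (a : MulAut (P : Subgroup G)) q) (mem_center_iff.1 hzc a)
  have hab : ∀ a b : (P : Subgroup G), a * b = b * a := fun a b =>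
    Subtype.ext (mul_comm_mem hG P a.2 b.2)
  have hcube : ∀ q : (P : Subgroup G), q ^ 3 = 1 := fun q => by
    by_cases h : q = 1
    · rw [h, one_pow]
    · have h1 : orderOf q = 3 := by
        rw [← Subgroup.orderOf_coe]
        exact orderOf_three hG P q.2 fun e => h (Subtype.ext e)
      exact (congrArg (fun n : ℕ => q ^ n) h1).symm.trans (pow_orderOf_eq_one q)
  have hsq : ∀ q : (P : Subgroup G), q * q = 1 → q = 1 := fun q h => by
    have := hcube q
    rwa [pow_succ, pow_two, h, one_mul] at this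
  -- the fixed and the inverted part
  let F : Subgroup (P : Subgroup G) :=
    { carrier := {q | σ q = q}
      one_mem' := map_one σ
      mul_mem' := fun {q r} hq hr => show σ (q * r) = q * r by rw [map_mul, hq, hr]
      inv_mem' := fun {q} hq => show σ q⁻¹ = q⁻¹ by rw [map_inv, hq] }
  let V : Subgroup (P : Subgroup G) :=
    { carrier := {q | σ q = q⁻¹}
      one_mem' := by show σ 1 = 1⁻¹; rw [map_one, inv_one]
      mul_mem' := fun {q r} hq hr => show σ (q * r) = (q * r)⁻¹ by
        rw [map_mul, hq, hr, hab q r, mul_inv_rev]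
      inv_mem' := fun {q} hq => show σ q⁻¹ = q⁻¹⁻¹ by rw [map_inv, hq] }
  have hinvol : ∀ q, q⁻¹ * σ q ∈ V := fun q => by
    show σ (q⁻¹ * σ q) = (q⁻¹ * σ q)⁻¹
    rw [map_mul, map_inv, hσ2, mul_inv_rev, inv_inv]
  have hfix : ∀ q, q * σ q ∈ F := fun q => by
    show σ (q * σ q) = q * σ q
    rw [map_mul, hσ2]; exact hab _ _
  by_cases hF : F = ⊥
  · -- the central automorphism is the inversion
    obtain ⟨s0, hs0⟩ := MonoidHom.mem_range.1 z.2
    have hinv : ∀ q : (P : Subgroup G), φ s0 q = q⁻¹ := fun q => by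
      rw [hs0]
      exact (inv_eq_of_mul_eq_one_right (mem_bot.1 (hF ▸ hfix q))).symm
    have hs3 : ∀ q : (P : Subgroup G), φ (s0 ^ 3) q = q⁻¹ := fun q => by
      rw [map_pow, pow_succ, pow_two]
      show φ s0 (φ s0 (φ s0 q)) = q⁻¹
      rw [hinv, hinv, hinv, inv_inv]
    have hker : s0 ^ 2 ∈ φ.ker := MonoidHom.mem_ker.2 (MulEquiv.ext fun q => by
      rw [map_pow, pow_two]
      show φ s0 (φ s0 q) = q
      rw [hinv, hinv, inv_inv])
    rw [hom_ker hG P, mem_subgroupOf] at hker
    have h6 : ((s0 : G) ^ 3) ^ 2 = 1 := by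
      have h := congrArg Subtype.val (hcube ⟨_, hker⟩)
      simp only [Subgroup.coe_pow, Subgroup.coe_one] at h
      rw [← pow_mul] at h
      rwa [← pow_mul]
    refine ⟨(s0 : G) ^ 3, orderOf_eq_prime h6 fun h => ?_, fun q hq => ?_⟩
    · have h' : s0 ^ 3 = 1 := Subtype.ext (by simpa using h)
      apply hσ1
      refine MulEquiv.ext fun q => ?_
      have e := hs3 q
      rw [h', map_one] at e
      have : q = 1 := hsq q (mul_eq_one_iff_eq_inv.2 e)
      rw [this, map_one]; rfl
    · have e := congrArg Subtype.val (hs3 ⟨q, hq⟩)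
      rw [happ] at e
      simpa using e
  · exfalso
    have hdiv : ∀ H : Subgroup (P : Subgroup G), H ≠ ⊥ → H ≠ ⊤ → Nat.card H = 3 := by
      intro H h1 h2
      obtain ⟨k, hk2, hk⟩ := (Nat.dvd_prime_pow Nat.prime_three).1
        (show Nat.card H ∣ 3 ^ 2 by have h := card_subgroup_dvd_card H; rwa [hP] at h)
      interval_cases k
      · exact absurd (card_eq_one.1 (hk.trans (pow_zero 3))) h1
      · simpa using hk
      · exact absurd (eq_top_of_card_eq H (hk.trans (by rw [hP]; norm_num))) h2
    have hFtop : F ≠ ⊤ := fun h => hσ1 (MulEquiv.ext fun q => (h.ge (mem_top q) : q ∈ F))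
    have hFV : ∀ q, q ∈ F → q ∈ V → q = 1 := fun q h1 h2 =>
      hsq q (mul_eq_one_iff_eq_inv.2 ((h1 : σ q = q).symm.trans h2))
    have hVbot : V ≠ ⊥ := fun h => hσ1 (MulEquiv.ext fun q => by
      exact (inv_mul_eq_one.1 (mem_bot.1 (h ▸ hinvol q))).symm)
    have hVtop : V ≠ ⊤ := fun h => hF (eq_bot_iff.2 fun q hq =>
      mem_bot.2 (hFV q hq (h.ge (mem_top q))))
    obtain ⟨f, hf, hf1⟩ : ∃ f ∈ F, f ≠ 1 := by
      by_contra hc
      push Not at hc
      exact hF (eq_bot_iff.2 fun q hq => mem_bot.2 (hc q hq))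
    obtain ⟨v, hv, hv1⟩ : ∃ v ∈ V, v ≠ 1 := by
      by_contra hc
      push Not at hc
      exact hVbot (eq_bot_iff.2 fun q hq => mem_bot.2 (hc q hq))
    -- an automorphism in the range is determined by two values with two choices each
    let g : φ.range → ({q : F // q ≠ 1} × {q : V // q ≠ 1}) := fun a =>
      (⟨⟨(a : MulAut (P : Subgroup G)) f, by
          show σ _ = _
          rw [← hcomm, (hf : σ f = f)]⟩,
        fun h => hf1 ((map_eq_one_iff _ (MulEquiv.injective _)).1 (congrArg Subtype.val h))⟩,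
       ⟨⟨(a : MulAut (P : Subgroup G)) v, by
          show σ _ = _
          rw [← hcomm, (hv : σ v = v⁻¹), map_inv]⟩,
        fun h => hv1 ((map_eq_one_iff _ (MulEquiv.injective _)).1 (congrArg Subtype.val h))⟩)
    have hg : Function.Injective g := by
      intro a b hab'
      have e1 : (a : MulAut (P : Subgroup G)) f = (b : MulAut (P : Subgroup G)) f :=
        congrArg (fun w : {q : F // q ≠ 1} × {q : V // q ≠ 1} => ((w.1.1 : F) : (P : Subgroup G))) hab'
      have e2 : (a : MulAut (P : Subgroup G)) v = (b : MulAut (P : Subgroup G)) v :=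
        congrArg (fun w : {q : F // q ≠ 1} × {q : V // q ≠ 1} => ((w.2.1 : V) : (P : Subgroup G))) hab'
      refine Subtype.ext (MulEquiv.ext fun q => ?_)
      -- the agreement set is a subgroup containing both parts
      let E : Subgroup (P : Subgroup G) :=
        MonoidHom.eqLocus (a : MulAut (P : Subgroup G)).toMonoidHom (b : MulAut (P : Subgroup G)).toMonoidHom
      have hEtop : E = ⊤ := by
        by_contra hne
        have hfE : f ∈ E := e1
        have hvE : v ∈ E := e2
        have hEb : E ≠ ⊥ := fun h => hf1 (mem_bot.1 (h ▸ hfE))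
        have hE3 := hdiv E hEb hne
        have hzf : zpowers f = E := eq_of_le_of_card_ge (zpowers_le.2 hfE) (by
          rw [Nat.card_zpowers, hE3, ← Subgroup.orderOf_coe,
            orderOf_three hG P f.2 fun e => hf1 (Subtype.ext e)])
        exact hv1 (hFV v ((zpowers_le.2 hf) (hzf.ge hvE)) hv)
      exact (hEtop.ge (mem_top q) : q ∈ E)
    have h2 : ∀ H : Subgroup (P : Subgroup G), Nat.card H = 3 →
        Nat.card {q : H // q ≠ 1} = 2 := fun H h3 => by
      haveI := Fintype.ofFinite H
      rw [Nat.card_eq_fintype_card, Fintype.card_subtype_compl, Fintype.card_subtype_eq,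
        ← Nat.card_eq_fintype_card, h3]
    have h := Nat.card_le_card_of_injective g hg
    rw [hA, Nat.card_prod, h2 F (hdiv F hF hFtop), h2 V (hdiv V hVbot hVtop)] at h
    omega

theorem card_centralizer_mem (hG : Nat.card G = 7920) (P : Sylow 3 G) {y : G}
    (hy : y ∈ (P : Subgroup G)) (hy1 : y ≠ 1) :
    Nat.card (centralizer ({y} : Set G)) = 18 := by
  obtain ⟨s, -, hs⟩ := exists_inv hG P
  refine card_centralizer_three hG (orderOf_three hG P hy hy1) (hs y hy) ?_
  have hle : (P : Subgroup G) ≤ centralizer ({y} : Set G) := fun a ha =>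
    mem_centralizer_singleton_iff.2 (mul_comm_mem hG P ha hy)
  have := card_dvd_of_le hle
  rwa [card_three hG P] at this

theorem centralizer_mem_le (hG : Nat.card G = 7920) (P : Sylow 3 G) {y : G}
    (hy : y ∈ (P : Subgroup G)) (hy1 : y ≠ 1) :
    centralizer ({y} : Set G) ≤ normalizer ((P : Subgroup G) : Set G) := by
  have hle : (P : Subgroup G) ≤ centralizer ({y} : Set G) := fun a ha =>
    mem_centralizer_singleton_iff.2 (mul_comm_mem hG P ha hy)
  have hidx : ((P : Subgroup G).subgroupOf (centralizer ({y} : Set G))).index = 2 := by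
    have h := ((P : Subgroup G).subgroupOf (centralizer ({y} : Set G))).card_mul_index
    rw [Nat.card_congr (subgroupOfEquivOfLe hle).toEquiv, card_three hG P,
      card_centralizer_mem hG P hy hy1] at h
    omega
  haveI := Subgroup.normal_of_index_eq_two hidx
  exact (normal_subgroupOf_iff_le_normalizer hle).1 inferInstance

/-- Two Sylow subgroups for three meet trivially. -/
theorem eq_of_mem (hG : Nat.card G = 7920) {P Q : Sylow 3 G} {y : G}
    (hy : y ∈ (P : Subgroup G)) (hy' : y ∈ (Q : Subgroup G)) (hy1 : y ≠ 1) : Q = P := by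
  refine Sylow.ext ((eq_of_le_of_card_ge ?_ (by rw [card_three hG P, card_three hG Q])))
  intro a ha
  have haN : a ∈ normalizer ((P : Subgroup G) : Set G) :=
    centralizer_mem_le hG P hy hy1 (mem_centralizer_singleton_iff.2 (mul_comm_mem hG Q ha hy'))
  have h1 := IsPGroup.inf_normalizer_sylow (P := (Q : Subgroup G)) Q.isPGroup' P
  exact (Subgroup.mem_inf.1 (h1.le (Subgroup.mem_inf.2 ⟨ha, haN⟩))).2

/-- The normaliser is transitive on the nontrivial elements. -/
theorem exists_conj_mem (hG : Nat.card G = 7920) (P : Sylow 3 G) {y y' : G}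
    (hy : y ∈ (P : Subgroup G)) (hy1 : y ≠ 1) (hy' : y' ∈ (P : Subgroup G)) (hy1' : y' ≠ 1) :
    ∃ g ∈ normalizer ((P : Subgroup G) : Set G), g * y * g⁻¹ = y' := by
  classical
  haveI := Fintype.ofFinite G
  set N := normalizer ((P : Subgroup G) : Set G) with hN
  haveI := Fintype.ofFinite N
  set O := Finset.univ.image (fun g : N => (g : G) * y * (g : G)⁻¹) with hO
  have hfib : ∀ z ∈ O, (Finset.univ.filter fun g : N => (g : G) * y * (g : G)⁻¹ = z).card = 18 := by
    intro z hz
    obtain ⟨g0, -, rfl⟩ := Finset.mem_image.1 hz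
    rw [← card_centralizer_mem hG P hy hy1, Nat.card_eq_fintype_card, ← Finset.card_univ]
    refine Finset.card_bij'
      (fun g hg => (⟨(g0 : G)⁻¹ * g, ?_⟩ : centralizer ({y} : Set G)))
      (fun c _ => g0 * ⟨(c : G), centralizer_mem_le hG P hy hy1 c.2⟩)
      (fun _ _ => Finset.mem_univ _) ?_ ?_ ?_
    · have h := (Finset.mem_filter.1 hg).2
      rw [mem_centralizer_singleton_iff]
      calc (g0 : G)⁻¹ * g * y = (g0 : G)⁻¹ * ((g : G) * y * (g : G)⁻¹) * g := by group
        _ = (g0 : G)⁻¹ * ((g0 : G) * y * (g0 : G)⁻¹) * g := by rw [h]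
        _ = y * ((g0 : G)⁻¹ * g) := by group
    · intro c _
      simp only [Finset.mem_filter, Finset.mem_univ, true_and, Subgroup.coe_mul]
      calc (g0 : G) * c * y * ((g0 : G) * c)⁻¹ = (g0 : G) * ((c : G) * y) * (c : G)⁻¹ * (g0 : G)⁻¹ := by group
        _ = (g0 : G) * y * (g0 : G)⁻¹ := by rw [mem_centralizer_singleton_iff.1 c.2]; group
    · intro g _
      exact Subtype.ext (by simp)
    · intro c _
      exact Subtype.ext (by simp)
  have h := Finset.card_eq_sum_card_fiberwise (f := fun g : N => (g : G) * y * (g : G)⁻¹)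
    (s := Finset.univ) (t := O) fun g _ => Finset.mem_image_of_mem _ (Finset.mem_univ g)
  rw [Finset.sum_congr rfl hfib, Finset.sum_const, smul_eq_mul, Finset.card_univ,
    ← Nat.card_eq_fintype_card, hN, card_normalizer hG P] at h
  have hsub : O ⊆ (Finset.univ.filter fun z : G => z ∈ (P : Subgroup G)).erase 1 := by
    intro z hz
    obtain ⟨g, -, rfl⟩ := Finset.mem_image.1 hz
    refine Finset.mem_erase.2 ⟨fun e => hy1 ?_,
      Finset.mem_filter.2 ⟨Finset.mem_univ _, (mem_normalizer_iff.1 g.2 y).1 hy⟩⟩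
    simpa using e
  have heq := Finset.eq_of_subset_of_card_le hsub (by
    rw [Finset.card_erase_of_mem (Finset.mem_filter.2 ⟨Finset.mem_univ 1, one_mem _⟩),
      ← Fintype.card_subtype, ← Nat.card_eq_fintype_card, card_three hG P]
    omega)
  have hy'O : y' ∈ O := by
    rw [heq]
    exact Finset.mem_erase.2 ⟨hy1', Finset.mem_filter.2 ⟨Finset.mem_univ _, hy'⟩⟩
  obtain ⟨g, -, hg⟩ := Finset.mem_image.1 hy'O
  exact ⟨g, g.2, hg⟩

end Cfsg.Agent.Lib.Points11
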