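import Cfsg.Agent.Lib.Points11.Normaliser

/-!
# Triples of Sylow subgroups for three inverted by one involution
-/

set_option autoImplicit false
set_option linter.unusedSectionVars false
set_option linter.style.haveILetI false

namespace Cfsg.Agent.Lib.Points11

open Cfsg Cfsg.Agent.Lib Cfsg.Agent.Lib.Char.O7920 Subgroup

universe u

variable {G : Type u} [Group G] [Finite G] [IsSimpleGroup G] [Fact (Nat.Prime 3)]

theorem smul_mem_iff (g : G) (P : Sylow 3 G) {x : G} :
    x ∈ ((g • P : Sylow 3 G) : Subgroup G) ↔ g⁻¹ * x * g ∈ (P : Subgroup G) := by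
  rw [Sylow.coe_subgroup_smul, Subgroup.mem_pointwise_smul_iff_inv_smul_mem]
  simp [MulAut.smul_def, mul_assoc]

theorem inv_mul_self {s : G} (hs : orderOf s = 2) : s⁻¹ = s :=
  inv_eq_of_mul_eq_one_right (by rw [← pow_two, ← hs, pow_orderOf_eq_one])

theorem Inv.conj {s : G} {P : Sylow 3 G} (h : Inv s P) (g : G) : Inv (g * s * g⁻¹) (g • P) := by
  refine ⟨by rw [show g * s * g⁻¹ = MulAut.conj g s from rfl, (MulAut.conj g).orderOf_eq, h.1],
    fun q hq => ?_⟩
  have e := h.2 _ ((smul_mem_iff g P).1 hq)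
  calc g * s * g⁻¹ * q * (g * s * g⁻¹)⁻¹ = g * (s * (g⁻¹ * q * g) * s⁻¹) * g⁻¹ := by group
    _ = g * (g⁻¹ * q * g)⁻¹ * g⁻¹ := by rw [e]
    _ = q⁻¹ := by group

theorem Inv.smul_self {s : G} {P : Sylow 3 G} (h : Inv s P) : s • P = P := by
  refine Sylow.ext (Subgroup.ext fun x => ?_)
  rw [smul_mem_iff]
  have key : ∀ z ∈ (P : Subgroup G), s⁻¹ * z * s ∈ (P : Subgroup G) := fun z hz => by
    have e := h.2 z hz
    rw [inv_mul_self h.1] at e ⊢
    rw [e]; exact inv_mem hz
  refine ⟨fun hx => ?_, fun hx => key x hx⟩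
  have e := key _ hx
  have e2 : s⁻¹ * (s⁻¹ * x * s) * s = x := by
    rw [inv_mul_self h.1]
    have hss : s * s = 1 := by rw [← pow_two, ← h.1, pow_orderOf_eq_one]
    calc s * (s * x * s) * s = (s * s) * x * (s * s) := by group
      _ = x := by rw [hss, one_mul, mul_one]
  rwa [e2] at e

theorem Inv.exists_mul (hG : Nat.card G = 7920) {s s' : G} {P : Sylow 3 G} (h : Inv s P)
    (h' : Inv s' P) : ∃ u ∈ (P : Subgroup G), s' = s * u := by
  refine ⟨s⁻¹ * s', ?_, by rw [mul_inv_cancel_left]⟩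
  refine (centralizer_eq hG P).le ?_
  rw [mem_centralizer_iff]
  intro q hq
  have e1 := h.2 q hq
  have e2 := h'.2 q hq
  calc q * (s⁻¹ * s') = s⁻¹ * (s * q * s⁻¹) * s' := by group
    _ = s⁻¹ * (s' * q * s'⁻¹) * s' := by rw [e1, e2]
    _ = s⁻¹ * s' * q := by group

theorem Inv.eq_of_commute (hG : Nat.card G = 7920) {s s' : G} {P : Sylow 3 G} (h : Inv s P)
    (h' : Inv s' P) (hc : s * s' = s' * s) : s' = s := by
  obtain ⟨u, hu, rfl⟩ := h.exists_mul hG h'
  have e : u = u⁻¹ := by
    rw [← h.2 u hu]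
    calc u = s⁻¹ * (s * u) := by group
      _ = s⁻¹ * (s * (s * u)) * s⁻¹ := by rw [hc]; group
      _ = s * u * s⁻¹ := by group
  by_cases hu1 : u = 1
  · rw [hu1, mul_one]
  · have h2 : u ^ 2 = 1 := by rw [pow_two]; nth_rewrite 2 [e]; exact mul_inv_cancel u
    have := orderOf_dvd_of_pow_eq_one h2
    rw [orderOf_three hG P hu hu1] at this
    norm_num at this

/-- Two Sylow subgroups have at most one common inverting involution. -/
theorem Inv.unique (hG : Nat.card G = 7920) {s s' : G} {P Q : Sylow 3 G} (hne : P ≠ Q)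
    (h : Inv s P) (h' : Inv s' P) (hQ : Inv s Q) (hQ' : Inv s' Q) : s' = s := by
  obtain ⟨u, hu, rfl⟩ := h.exists_mul hG h'
  obtain ⟨v, hv, he⟩ := hQ.exists_mul hG hQ'
  have huv : u = v := mul_left_cancel he
  by_contra hne'
  exact hne (eq_of_mem hG hu (huv ▸ hv) fun h1 => hne' (by rw [h1, mul_one])).symm

/-- Conjugation by the Sylow subgroup is transitive on the inverting involutions. -/
theorem Inv.exists_conj (hG : Nat.card G = 7920) {s s' : G} {P : Sylow 3 G} (h : Inv s P)
    (h' : Inv s' P) : ∃ u ∈ (P : Subgroup G), u * s * u⁻¹ = s' := by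
  obtain ⟨v, hv, rfl⟩ := h.exists_mul hG h'
  refine ⟨v, hv, ?_⟩
  by_cases hv1 : v = 1
  · rw [hv1]; group
  have h3 : v * v * v = 1 := by
    rw [← pow_two, ← pow_succ]
    show v ^ 3 = 1
    have e3 := orderOf_three hG P hv hv1
    exact (congrArg (fun n : ℕ => v ^ n) e3).symm.trans (pow_orderOf_eq_one v)
  have e : v * s = s * v⁻¹ := by
    have h1 := h.2 v⁻¹ (inv_mem hv)
    rw [inv_inv, mul_inv_eq_iff_eq_mul] at h1
    exact h1.symm
  calc v * s * v⁻¹ = s * (v⁻¹ * v⁻¹) := by rw [e, mul_assoc]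
    _ = s * v := by rw [← mul_inv_rev, inv_eq_of_mul_eq_one_left (by rw [← mul_assoc]; exact h3)]

theorem card_invs (hG : Nat.card G = 7920) (P : Sylow 3 G) : Nat.card {s // Inv s P} = 9 := by
  obtain ⟨s, hs⟩ := exists_inv hG P
  rw [← card_three hG P]
  symm
  refine Nat.card_eq_of_bijective (fun u : (P : Subgroup G) => (⟨(u : G) * s * (u : G)⁻¹, ?_⟩ : {s // Inv s P}))
    ⟨fun u v huv => ?_, fun w => ?_⟩
  · have h := hs.conj (u : G)
    rwa [Sylow.smul_eq_iff_mem_normalizer.2 (le_normalizer u.2)] at h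
  · have e : (u : G) * s * (u : G)⁻¹ = (v : G) * s * (v : G)⁻¹ := congrArg Subtype.val huv
    refine Subtype.ext ?_
    set w := (v : G)⁻¹ * u with hw
    have hwP : w ∈ (P : Subgroup G) := mul_mem (inv_mem v.2) u.2
    have hws : s * w * s⁻¹ = w := by
      have hc : w * s = s * w := by
        calc w * s = (v : G)⁻¹ * ((u : G) * s * (u : G)⁻¹) * u := by rw [hw]; group
          _ = (v : G)⁻¹ * ((v : G) * s * (v : G)⁻¹) * u := by rw [e]
          _ = s * w := by rw [hw]; group
      rw [← hc, mul_inv_cancel_right]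
    rw [hs.2 w hwP] at hws
    by_contra hne
    have hw1 : w ≠ 1 := fun h => hne (inv_mul_eq_one.1 h).symm
    have h2 : w ^ 2 = 1 := by rw [pow_two]; nth_rewrite 2 [← hws]; exact mul_inv_cancel w
    have := orderOf_dvd_of_pow_eq_one h2
    rw [orderOf_three hG P hwP hw1] at this
    norm_num at this
  · obtain ⟨u, hu, he⟩ := hs.exists_conj hG w.2
    exact ⟨⟨u, hu⟩, Subtype.ext he⟩

/-- An involution inverts exactly three Sylow subgroups for three. -/
theorem card_tri (hG : Nat.card G = 7920) {s : G} (hs : orderOf s = 2) :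
    Nat.card {P : Sylow 3 G // Inv s P} = 3 := by
  classical
  haveI := Fintype.ofFinite G
  haveI := Fintype.ofFinite (Sylow 3 G)
  have hconst : ∀ t : G, orderOf t = 2 →
      Nat.card {P : Sylow 3 G // Inv t P} = Nat.card {P : Sylow 3 G // Inv s P} := by
    intro t ht
    obtain ⟨g, hg⟩ := isConj_iff.1 (invol_isConj hG hs ht)
    symm
    refine Nat.card_congr ((MulAction.toPerm g).subtypeEquiv fun P => ⟨fun h => ?_, fun h => ?_⟩)
    · exact hg ▸ h.conj g
    · have h' := h.conj g⁻¹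
      rw [MulAction.toPerm_apply, inv_smul_smul, ← hg] at h'
      rwa [show g⁻¹ * (g * s * g⁻¹) * g⁻¹⁻¹ = s by group] at h'
  have e1 : ∑ t ∈ Finset.univ.filter (fun t : G => orderOf t = 2),
      Nat.card {P : Sylow 3 G // Inv t P} = ∑ P : Sylow 3 G, Nat.card {t : G // Inv t P} := by
    simp only [Nat.card_eq_fintype_card, Fintype.card_subtype, Finset.card_filter]
    rw [Finset.sum_comm]
    refine Finset.sum_congr rfl fun P _ => ?_
    refine Finset.sum_subset (Finset.subset_univ _) fun t _ ht => ?_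
    simp only [Finset.mem_filter, Finset.mem_univ, true_and] at ht
    rw [if_neg fun h => ht h.1]
  rw [Finset.sum_congr rfl fun t ht => hconst t (Finset.mem_filter.1 ht).2, Finset.sum_const,
    Finset.sum_congr rfl fun P _ => card_invs hG P, Finset.sum_const, Finset.card_univ,
    ← Nat.card_eq_fintype_card, card_sylow_three hG, smul_eq_mul, smul_eq_mul,
    ← Fintype.card_subtype, ← Nat.card_eq_fintype_card, card_invol hG] at e1
  omega

/-- The part of the normaliser centralising the involution. -/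
theorem Inv.exists_decomp (hG : Nat.card G = 7920) {s : G} {P : Sylow 3 G} (h : Inv s P) {n : G}
    (hn : n • P = P) : ∃ u ∈ (P : Subgroup G), ∃ t, t * s = s * t ∧ t • P = P ∧ n = u * t := by
  have h' := h.conj n
  rw [hn] at h'
  obtain ⟨u, hu, he⟩ := h.exists_conj hG h'
  refine ⟨u, hu, u⁻¹ * n, ?_, ?_, by group⟩
  · calc u⁻¹ * n * s = u⁻¹ * (n * s * n⁻¹) * n := by group
      _ = u⁻¹ * (u * s * u⁻¹) * n := by rw [he]
      _ = s * (u⁻¹ * n) := by group
  · rw [mul_smul, hn]
    exact Sylow.smul_eq_iff_mem_normalizer.2 (le_normalizer (inv_mem hu))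

theorem card_stab (hG : Nat.card G = 7920) {s : G} {P : Sylow 3 G} (h : Inv s P) :
    Nat.card (centralizer ({s} : Set G) ⊓ normalizer ((P : Subgroup G) : Set G) : Subgroup G) = 16 := by
  set T := centralizer ({s} : Set G) ⊓ normalizer ((P : Subgroup G) : Set G) with hT
  set N := normalizer ((P : Subgroup G) : Set G) with hN
  have hPN : (P : Subgroup G) ≤ N := le_normalizer
  let φ : T →* (P : Subgroup G).normalizerMonoidHom.range :=
    ((P : Subgroup G).normalizerMonoidHom.rangeRestrict).comp (Subgroup.inclusion inf_le_right)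
  have hbij : Function.Bijective φ := by
    constructor
    · rw [injective_iff_map_eq_one]
      intro a ha
      have hk : (Subgroup.inclusion inf_le_right a : N) ∈ (P : Subgroup G).normalizerMonoidHom.ker :=
        MonoidHom.mem_ker.2 (congrArg Subtype.val ha)
      rw [hom_ker hG P, mem_subgroupOf, Subgroup.coe_inclusion] at hk
      have hc : (a : G) * s = s * a := mem_centralizer_singleton_iff.1 (mem_inf.1 a.2).1
      by_contra hne
      have h1 : (a : G) ≠ 1 := fun e => hne (Subtype.ext e)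
      have e := h.2 _ hk
      rw [← hc, mul_inv_cancel_right] at e
      have h2 : (a : G) ^ 2 = 1 := by rw [pow_two]; nth_rewrite 2 [e]; exact mul_inv_cancel _
      have := orderOf_dvd_of_pow_eq_one h2
      rw [orderOf_three hG P hk h1] at this
      norm_num at this
    · rintro ⟨_, n, rfl⟩
      obtain ⟨u, hu, t, ht, htP, he⟩ := h.exists_decomp hG (n := (n : G))
        (Sylow.smul_eq_iff_mem_normalizer.2 n.2)
      refine ⟨⟨t, mem_inf.2 ⟨mem_centralizer_singleton_iff.2 ht,
        Sylow.smul_eq_iff_mem_normalizer.1 htP⟩⟩, Subtype.ext ?_⟩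
      have hn : n = ⟨u, hPN hu⟩ * ⟨t, Sylow.smul_eq_iff_mem_normalizer.1 htP⟩ := Subtype.ext he
      show (P : Subgroup G).normalizerMonoidHom _ = (P : Subgroup G).normalizerMonoidHom n
      have hu' : (P : Subgroup G).normalizerMonoidHom ⟨u, hPN hu⟩ = 1 := by
        rw [← MonoidHom.mem_ker, hom_ker hG P]; exact hu
      rw [hn, map_mul, hu', one_mul]
      rfl
  rw [Nat.card_eq_of_bijective φ hbij, card_hom_range hG P]

/-- The centraliser of an involution is transitive on the three inverted subgroups. -/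
theorem Inv.exists_map (hG : Nat.card G = 7920) {s : G} {P Q : Sylow 3 G} (h : Inv s P)
    (hQ : Inv s Q) : ∃ c, c * s = s * c ∧ c • P = Q := by
  classical
  set C := centralizer ({s} : Set G) with hC
  have hsub : MulAction.orbit C P ⊆ {Q | Inv s Q} := by
    rintro R ⟨c, rfl⟩
    have h' := h.conj (c : G)
    rw [show (c : G) * s * (c : G)⁻¹ = s by
      rw [mem_centralizer_singleton_iff.1 c.2, mul_inv_cancel_right]] at h'
    exact h'
  have hst : Nat.card (MulAction.stabilizer C P) = 16 := by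
    rw [← card_stab hG h]
    refine Nat.card_congr ⟨fun c => ⟨(c : C), mem_inf.2 ⟨c.1.2,
      Sylow.smul_eq_iff_mem_normalizer.1 c.2⟩⟩, fun c => ⟨⟨c.1, (mem_inf.1 c.2).1⟩,
      Sylow.smul_eq_iff_mem_normalizer.2 (mem_inf.1 c.2).2⟩, fun _ => rfl, fun _ => rfl⟩
  have h1 := (MulAction.stabilizer C P).card_mul_index
  rw [hst, MulAction.index_stabilizer, card_centralizer_involution hG h.1] at h1
  have heq : MulAction.orbit C P = {Q | Inv s Q} := by
    refine Set.eq_of_subset_of_ncard_le hsub ?_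
    have : ({Q | Inv s Q} : Set (Sylow 3 G)).ncard = 3 := by
      rw [← Nat.card_coe_set_eq]; exact card_tri hG h.1
    omega
  obtain ⟨c, hc⟩ := heq.ge hQ
  exact ⟨c, mem_centralizer_singleton_iff.1 c.2, hc⟩

/-- Reflections: other involutions of the stabiliser. -/
def Refl (s r : G) (P : Sylow 3 G) : Prop :=
  orderOf r = 2 ∧ r * s = s * r ∧ r • P = P ∧ r ≠ s

theorem Refl.exists_fixed (hG : Nat.card G = 7920) {s r : G} {P : Sylow 3 G} (h : Inv s P)
    (hr : Refl s r P) : ∃ y ∈ (P : Subgroup G), y ≠ 1 ∧ r * y = y * r := by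
  by_contra hc
  push Not at hc
  refine hr.2.2.2 (h.eq_of_commute hG ⟨hr.1, fun q hq => ?_⟩ hr.2.1.symm)
  have hq' : r * q * r⁻¹ ∈ (P : Subgroup G) :=
    (mem_normalizer_iff.1 (Sylow.smul_eq_iff_mem_normalizer.1 hr.2.2.1) q).1 hq
  by_contra hne
  refine hc (q * (r * q * r⁻¹)) (mul_mem hq hq') (fun e => hne ?_) ?_
  · exact (inv_eq_of_mul_eq_one_right e).symm
  · have hrr : r * r = 1 := by rw [← pow_two, ← hr.1, pow_orderOf_eq_one]
    calc r * (q * (r * q * r⁻¹)) = (r * q * r⁻¹) * ((r * r) * q * r⁻¹) := by group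
      _ = (r * q * r⁻¹) * q * r⁻¹ := by rw [hrr, one_mul]; group
      _ = q * (r * q * r⁻¹) * r⁻¹ := by rw [mul_comm_mem hG P hq' hq]
      _ = q * (r * q * r⁻¹) * r := by rw [inv_mul_self hr.1]

/-- An element of the stabiliser centralising a nontrivial element squares to one. -/
theorem stab_fixed_unique (hG : Nat.card G = 7920) {s a b : G} {P : Sylow 3 G} (h : Inv s P) {y : G}
    (hy : y ∈ (P : Subgroup G)) (hy1 : y ≠ 1) (ha : a * s = s * a) (haP : a • P = P)
    (hay : a * y = y * a) (hb : b * s = s * b) (hbP : b • P = P) (hby : b * y = y * b)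
    (ha1 : a ≠ 1) (hb1 : b ≠ 1) : a = b ∧ orderOf a = 2 := by
  classical
  set T := centralizer ({s} : Set G) ⊓ normalizer ((P : Subgroup G) : Set G) with hT
  set D := T ⊓ centralizer ({y} : Set G) with hD
  have hd1 : Nat.card D ∣ 16 := card_stab hG h ▸ card_dvd_of_le (inf_le_left : D ≤ T)
  have hd2 : Nat.card D ∣ 18 := card_centralizer_mem hG P hy hy1 ▸
    card_dvd_of_le (inf_le_right : D ≤ centralizer ({y} : Set G))
  have hD2 : Nat.card D ≤ 2 := Nat.le_of_dvd two_pos ((Nat.dvd_gcd hd1 hd2).trans (by norm_num))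
  have haD : a ∈ D := mem_inf.2 ⟨mem_inf.2 ⟨mem_centralizer_singleton_iff.2 ha,
    Sylow.smul_eq_iff_mem_normalizer.1 haP⟩, mem_centralizer_singleton_iff.2 hay⟩
  have hbD : b ∈ D := mem_inf.2 ⟨mem_inf.2 ⟨mem_centralizer_singleton_iff.2 hb,
    Sylow.smul_eq_iff_mem_normalizer.1 hbP⟩, mem_centralizer_singleton_iff.2 hby⟩
  refine ⟨?_, ?_⟩
  · by_contra hne
    haveI := Fintype.ofFinite D
    have h3 : ({⟨1, one_mem D⟩, ⟨a, haD⟩, ⟨b, hbD⟩} : Finset D).card = 3 :=
      Finset.card_eq_three.2 ⟨_, _, _, fun e => ha1 (congrArg Subtype.val e).symm,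
        fun e => hb1 (congrArg Subtype.val e).symm, fun e => hne (congrArg Subtype.val e), rfl⟩
    have := Finset.card_le_univ ({⟨1, one_mem D⟩, ⟨a, haD⟩, ⟨b, hbD⟩} : Finset D)
    rw [h3, ← Nat.card_eq_fintype_card] at this
    omega
  · have h' := orderOf_dvd_natCard (⟨a, haD⟩ : D)
    rw [orderOf_mk] at h'
    have h0 : orderOf a ≠ 1 := fun e => ha1 (orderOf_eq_one_iff.1 e)
    have h1 : 0 < orderOf a := orderOf_pos a
    have h2 := Nat.le_of_dvd Nat.card_pos h'
    omega

/-- There are at most four reflections. -/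
theorem card_refl_le (hG : Nat.card G = 7920) {s : G} {P : Sylow 3 G} (h : Inv s P) :
    Nat.card {r // Refl s r P} ≤ 4 := by
  classical
  haveI := Fintype.ofFinite G
  rw [Nat.card_eq_fintype_card, Fintype.card_subtype]
  set R := Finset.univ.filter fun r : G => Refl s r P with hR
  let F : G → Finset G := fun r =>
    (Finset.univ.filter fun y : G => y ∈ (P : Subgroup G) ∧ r * y = y * r).erase 1
  have hF2 : ∀ r ∈ R, 2 ≤ (F r).card := by
    intro r hr
    obtain ⟨y, hy, hy1, hry⟩ := (Finset.mem_filter.1 hr).2.exists_fixed hG h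
    have hne : y ≠ y⁻¹ := fun e => by
      have h2 : y ^ 2 = 1 := by rw [pow_two]; nth_rewrite 2 [e]; exact mul_inv_cancel y
      have := orderOf_dvd_of_pow_eq_one h2
      rw [orderOf_three hG P hy hy1] at this
      norm_num at this
    rw [← Finset.card_pair hne]
    refine Finset.card_le_card fun z hz => ?_
    rcases Finset.mem_insert.1 hz with rfl | hz'
    · exact Finset.mem_erase.2 ⟨hy1, Finset.mem_filter.2 ⟨Finset.mem_univ _, hy, hry⟩⟩
    · rw [Finset.mem_singleton.1 hz']
      exact Finset.mem_erase.2 ⟨inv_ne_one.2 hy1, Finset.mem_filter.2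
        ⟨Finset.mem_univ _, inv_mem hy, ((show Commute r y from hry).inv_right).eq⟩⟩
  have hdisj : (R : Set G).PairwiseDisjoint F := by
    intro a ha b hb hab
    have ha' := (Finset.mem_filter.1 ha).2
    have hb' := (Finset.mem_filter.1 hb).2
    refine Finset.disjoint_left.2 fun z hza hzb => hab ?_
    obtain ⟨hz1, hz⟩ := Finset.mem_erase.1 hza
    obtain ⟨-, hzP, hza'⟩ := Finset.mem_filter.1 hz
    obtain ⟨-, -, hzb'⟩ := Finset.mem_filter.1 (Finset.mem_erase.1 hzb).2
    refine (stab_fixed_unique hG h hzP hz1 ha'.2.1 ha'.2.2.1 hza' hb'.2.1 hb'.2.2.1 hzb' ?_ ?_).1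
    · intro e; have := ha'.1; rw [e, orderOf_one] at this; omega
    · intro e; have := hb'.1; rw [e, orderOf_one] at this; omega
  have hsub : R.biUnion F ⊆ (Finset.univ.filter fun y : G => y ∈ (P : Subgroup G)).erase 1 := by
    intro z hz
    obtain ⟨r, -, hr⟩ := Finset.mem_biUnion.1 hz
    obtain ⟨h1, h2⟩ := Finset.mem_erase.1 hr
    exact Finset.mem_erase.2 ⟨h1, Finset.mem_filter.2 ⟨Finset.mem_univ _, (Finset.mem_filter.1 h2).2.1⟩⟩
  have hc := Finset.card_le_card hsub
  rw [Finset.card_biUnion hdisj,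
    Finset.card_erase_of_mem (Finset.mem_filter.2 ⟨Finset.mem_univ 1, one_mem _⟩),
    ← Fintype.card_subtype, ← Nat.card_eq_fintype_card, card_three hG P] at hc
  have hlow : R.card * 2 ≤ ∑ r ∈ R, (F r).card := Finset.card_nsmul_le_sum R _ 2 hF2
  omega

/-- Reflections of one stabiliser are conjugate in it. -/
theorem Refl.exists_conj (hG : Nat.card G = 7920) {s r r' : G} {P : Sylow 3 G} (h : Inv s P)
    (hr : Refl s r P) (hr' : Refl s r' P) :
    ∃ t, t * s = s * t ∧ t • P = P ∧ t * r * t⁻¹ = r' := by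
  obtain ⟨y, hy, hy1, hry⟩ := hr.exists_fixed hG h
  obtain ⟨y', hy', hy1', hry'⟩ := hr'.exists_fixed hG h
  obtain ⟨n, hn, hny⟩ := exists_conj_mem hG P hy hy1 hy' hy1'
  obtain ⟨u, hu, t, ht, htP, rfl⟩ := h.exists_decomp hG (Sylow.smul_eq_iff_mem_normalizer.2 hn)
  refine ⟨t, ht, htP, ?_⟩
  have hty : t * y * t⁻¹ = y' := by
    calc t * y * t⁻¹ = u⁻¹ * (u * t * y * (u * t)⁻¹) * u := by group
      _ = u⁻¹ * y' * u := by rw [hny]
      _ = y' := by rw [mul_assoc, mul_comm_mem hG P hy' hu, inv_mul_cancel_left]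
  have hne : r ≠ 1 := fun e => by have := hr.1; rw [e, orderOf_one] at this; omega
  have hne' : r' ≠ 1 := fun e => by have := hr'.1; rw [e, orderOf_one] at this; omega
  refine (stab_fixed_unique hG h hy' hy1' ?_ ?_ ?_ hr'.2.1 hr'.2.2.1 hry' ?_ hne').1
  · exact (((show Commute t s from ht).mul_left (show Commute r s from hr.2.1)).mul_left
      (show Commute t s from ht).inv_left).eq
  · rw [mul_smul, mul_smul, inv_smul_eq_iff.2 htP.symm, hr.2.2.1, htP]
  · rw [← hty]
    calc t * r * t⁻¹ * (t * y * t⁻¹) = t * (r * y) * t⁻¹ := by group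
      _ = t * (y * r) * t⁻¹ := by rw [hry]
      _ = t * y * t⁻¹ * (t * r * t⁻¹) := by group
  · intro e
    exact hne (by simpa using e)

/-- An involution commuting with `s` stabilises one of the three inverted subgroups. -/
theorem exists_fixed_tri (hG : Nat.card G = 7920) {s v : G} (hs : orderOf s = 2) (hv : orderOf v = 2)
    (hvs : v * s = s * v) : ∃ P : Sylow 3 G, Inv s P ∧ v • P = P := by
  classical
  haveI := Fintype.ofFinite (Sylow 3 G)
  haveI : Fact (Nat.Prime 2) := ⟨Nat.prime_two⟩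
  let e : Function.End {P : Sylow 3 G // Inv s P} := fun P => ⟨v • P.1, by
    have h := P.2.conj v
    rwa [hvs, mul_inv_cancel_right] at h⟩
  have hpow : e ^ 2 ^ 1 = 1 := by
    funext P
    refine Subtype.ext ?_
    show v • v • P.1 = P.1
    rw [← mul_smul, ← pow_two, ← hv, pow_orderOf_eq_one, one_smul]
  have hmod := Equiv.Perm.card_fixedPoints_modEq hpow
  rw [← Nat.card_eq_fintype_card, card_tri hG hs, Nat.ModEq] at hmod
  have hne : Nonempty (Function.fixedPoints e) := by
    rw [← Fintype.card_pos_iff]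
    omega
  obtain ⟨⟨P, hP⟩⟩ := hne
  exact ⟨P.1, P.2, congrArg Subtype.val hP⟩

/-- Every stabiliser has a reflection. -/
theorem exists_refl (hG : Nat.card G = 7920) {s : G} {P : Sylow 3 G} (h : Inv s P) :
    ∃ r, Refl s r P := by
  have h12 := card_commuting hG h.1
  obtain ⟨⟨v, hv, hvs, hne⟩⟩ : Nonempty {v : G // orderOf v = 2 ∧ v * s = s * v ∧ v ≠ s} := by
    by_contra hc
    rw [not_nonempty_iff] at hc
    rw [Nat.card_of_isEmpty] at h12
    omega
  obtain ⟨Q, hQ, hvQ⟩ := exists_fixed_tri hG h.1 hv hvs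
  obtain ⟨c, hc, rfl⟩ := h.exists_map hG hQ
  refine ⟨c⁻¹ * v * c, ?_, ?_, ?_, fun e => hne ?_⟩
  · have := (MulAut.conj c⁻¹).orderOf_eq v
    simp only [MulAut.conj_apply, inv_inv] at this
    rw [this, hv]
  · exact (((show Commute c s from hc).inv_left.mul_left (show Commute v s from hvs)).mul_left
      (show Commute c s from hc)).eq
  · rw [mul_smul, mul_smul, hvQ, inv_smul_smul]
  · calc v = c * (c⁻¹ * v * c) * c⁻¹ := by group
      _ = c * s * c⁻¹ := by rw [e]
      _ = s := by rw [hc, mul_inv_cancel_right]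

/-- Only `s` itself is an involution fixing all three subgroups. -/
theorem eq_of_fix_all (hG : Nat.card G = 7920) {s r : G} {P : Sylow 3 G} (h : Inv s P)
    (hr : orderOf r = 2) (hrs : r * s = s * r) (hall : ∀ Q, Inv s Q → r • Q = Q) : r = s := by
  classical
  by_contra hne
  have hrefl : Refl s r P := ⟨hr, hrs, hall P h, hne⟩
  have hmap : ∀ t : G, t * s = s * t → ∀ Q, Inv s Q → Inv s (t⁻¹ • Q) := by
    intro t ht Q hQ
    have h' := hQ.conj t⁻¹
    rwa [show t⁻¹ * s * t⁻¹⁻¹ = s by rw [inv_inv, mul_assoc, ← ht, inv_mul_cancel_left]] at h'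
  have hallP : ∀ r', Refl s r' P → ∀ Q, Inv s Q → r' • Q = Q := by
    intro r' hr' Q hQ
    obtain ⟨t, ht, htP, rfl⟩ := hrefl.exists_conj hG h hr'
    rw [mul_smul, mul_smul, hall _ (hmap t ht Q hQ), smul_inv_smul]
  have hle : Nat.card {v : G // orderOf v = 2 ∧ v * s = s * v ∧ v ≠ s} ≤ Nat.card {v // Refl s v P} := by
    refine Nat.card_le_card_of_injective (fun v => ⟨v.1, v.2.1, v.2.2.1, ?_, v.2.2.2⟩)
      fun a b hab => Subtype.ext (congrArg (fun w : {v // Refl s v P} => w.1) hab)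
    obtain ⟨X, hX, hvX⟩ := exists_fixed_tri hG h.1 v.2.1 v.2.2.1
    obtain ⟨c, hc, rfl⟩ := h.exists_map hG hX
    have hr' : Refl s (c⁻¹ * v.1 * c) P := by
      refine ⟨?_, ?_, ?_, fun e => v.2.2.2 ?_⟩
      · have := (MulAut.conj c⁻¹).orderOf_eq v.1
        simp only [MulAut.conj_apply, inv_inv] at this
        rw [this, v.2.1]
      · exact (((show Commute c s from hc).inv_left.mul_left (show Commute v.1 s from v.2.2.1)).mul_left
          (show Commute c s from hc)).eq
      · rw [mul_smul, mul_smul, hvX, inv_smul_smul]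
      · calc v.1 = c * (c⁻¹ * v.1 * c) * c⁻¹ := by group
          _ = c * s * c⁻¹ := by rw [e]
          _ = s := by rw [hc, mul_inv_cancel_right]
    have e := hallP _ hr' (c⁻¹ • P) (hmap c hc P h)
    rw [mul_smul, mul_smul, smul_inv_smul] at e
    exact inv_smul_eq_iff.1 (e.trans rfl) |>.trans (smul_inv_smul c P)
  have := card_refl_le hG h
  rw [card_commuting hG h.1] at hle
  omega

end Cfsg.Agent.Lib.Points11
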